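import Cfsg.Agent.Lib.Sporadic.SuzSection.Rep
import Cfsg.Agent.Lib.ThreeTrans.SimpleOfIrreducible
import Cfsg.Agent.Lib.ThreeTrans.LargeOddSection
import Cfsg.Agent.Lib.ThreeTrans.LargeCriteria
import Cfsg.Agent.Lib.ThreeTrans.LargeGeneration
import Cfsg.Agent.Lib.Core.Coprime
import Cfsg.Agent.Lib.Components.CharTwoLocal

/-!
# The section of Co0 at an element of order three with the large extraspecial hypothesis of minus type
-/

set_option autoImplicit false
set_option maxRecDepth 20000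
set_option synthInstance.maxSize 2000

namespace CfsgLib.Sporadic.Conway.SuzSection

open Cfsg Matrix CfsgLib.ThreeTrans CfsgLib.ThreeTrans.LargeOddSection
open CfsgLib.Sporadic.Conway.OneInv (zOne C1 QOne)

local notation "F₂" => ZMod 2
local notation "O₆" => Cfsg.isometryGroup F₂ q6
local notation "O₈" => Cfsg.isometryGroup F₂ q8
local notation "Gc" => Cfsg.Spor.Co1

theorem finite_Co0 : Finite ↥Cfsg.Co0 :=
  Nat.finite_of_card_ne_zero (by rw [card_Co0]; norm_num)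

instance finite_Co1 : Finite Gc :=
  haveI := finite_Co0
  Finite.of_surjective _ (QuotientGroup.mk'_surjective (Subgroup.center ↥Cfsg.Co0))

/-- The rotation as an isometry. -/
noncomputable def a0 : ↥O₈ :=
  ⟨⟨A0, A0 * A0, by rw [← Matrix.mul_assoc, A0_cube], A0_cube⟩,
    fun u _ => blk_preserve (fun u => by rw [Matrix.one_mulVec]) rot_qW u⟩

theorem a0_val : (((a0 : ↥O₈) : Matrix.GeneralLinearGroup I8 F₂) : Matrix I8 I8 F₂) = A0 := rfl

theorem a0_pow : a0 ^ 3 = 1 :=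
  Subtype.ext (Units.ext (by
    rw [show (a0 ^ 3 : ↥O₈) = a0 * a0 * a0 from pow_three' a0, Subgroup.coe_mul, Subgroup.coe_mul,
      Units.val_mul, Units.val_mul, a0_val, A0_cube]
    rfl))

theorem a0_mem : a0 ∈ Cfsg.Omega F₂ q8 := by
  have e : a0 = (a0 * a0) * (a0 * a0) := by
    calc a0 = a0 ^ 3 * a0 := by rw [a0_pow, one_mul]
      _ = _ := by simp only [pow_three', mul_assoc]
  rw [e, ← pow_two]
  exact Subgroup.sq_mem_of_index_two index8 _

theorem exists_a : ∃ a : ↥C1, a ^ 3 = 1 ∧ sigma a = a0 := by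
  obtain ⟨g, hg⟩ : a0 ∈ sigma.range := range_sigma ▸ a0_mem
  have h3 : g ^ 3 ∈ QOne := by
    rw [← ker_eq, MonoidHom.mem_ker, map_pow, hg, a0_pow]
  have h4 : (⟨g ^ 3, h3⟩ : ↥QOne) ^ 4 = 1 := by
    rw [show (4 : ℕ) = 2 * 2 from rfl, pow_mul, pow_two (⟨g ^ 3, h3⟩ : ↥QOne), sq_eq, pow_two]
    rcases (by decide : ∀ t : F₂, t = 0 ∨ t = 1) (q8 (psi (⟨g ^ 3, h3⟩ : ↥QOne))) with e | e <;> rw [e, zf]
    · rw [if_neg (by decide), one_mul]
    · rw [if_pos rfl, zQ_sq]
  refine ⟨g ^ 4, ?_, ?_⟩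
  · rw [← pow_mul, show 4 * 3 = 3 * 4 from rfl, pow_mul]
    exact congrArg Subtype.val h4
  · rw [map_pow, hg, pow_succ, a0_pow, one_mul]

/-- The element of order three in the centraliser. -/
noncomputable def aC : ↥C1 := exists_a.choose

theorem aC_pow : aC ^ 3 = 1 := exists_a.choose_spec.1

theorem sigma_aC : sigma aC = a0 := exists_a.choose_spec.2

theorem smat_aC : smat aC = A0 := by rw [← sigma_val, sigma_aC, a0_val]

/-- The element of order three. -/
noncomputable def aG : Gc := (aC : Gc)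

theorem aG_pow : aG ^ 3 = 1 := congrArg Subtype.val aC_pow

theorem aG_ne : aG ≠ 1 := by
  intro h
  have e : aC = 1 := Subtype.ext h
  have h1 := smat_aC
  rw [e, show smat 1 = 1 from smatHom.map_one] at h1
  exact (by decide +kernel : (1 : Matrix I8 I8 F₂) ≠ A0) h1

theorem orderOf_aG : orderOf aG = 3 := orderOf_eq_prime aG_pow aG_ne

/-- The group of order three. -/
noncomputable def AG : Subgroup Gc := Subgroup.zpowers aG

theorem card_AG : Nat.card AG = 3 := by rw [AG, Nat.card_zpowers, orderOf_aG]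

theorem mem_cent_AG {x : Gc} : x ∈ Subgroup.centralizer (AG : Set Gc) ↔ x * aG = aG * x := by
  constructor
  · exact fun h => (Subgroup.mem_centralizer_iff.1 h aG (Subgroup.mem_zpowers aG)).symm
  · intro h
    rw [Subgroup.mem_centralizer_iff]
    intro y hy
    obtain ⟨i, rfl⟩ := Subgroup.mem_zpowers_iff.1 hy
    exact ((show Commute x aG from h).zpow_right i).symm.eq

theorem AG_le : AG ≤ Subgroup.centralizer ({zOne} : Set Gc) := (Subgroup.zpowers_le.2 aC.2)

theorem exists_pow_AG {x : Gc} (hx : x ∈ AG) : ∃ i : ℕ, aG ^ i = x :=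
  Submonoid.mem_powers_iff _ _ |>.1 (mem_powers_iff_mem_zpowers.2 hx)

theorem conj_cent {x y : Gc} (hx : x ∈ Subgroup.centralizer (AG : Set Gc))
    (hy : y ∈ Subgroup.centralizer (AG : Set Gc)) : x * y * x⁻¹ ∈ Subgroup.centralizer (AG : Set Gc) :=
  mul_mem (mul_mem hx hy) (inv_mem hx)

/-- The extraspecial group in the simple group. -/
noncomputable def QG : Subgroup Gc := QOne.map C1.subtype

theorem QG_data : LargeData zOne QG := by
  refine LargeGeneration.largeData_of_gFitting OneInv.zOne_order (Subgroup.map_subtype_le _) ?_ ?_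
  · rw [OneInv.gFitting_eq]; rfl
  · haveI : Fact (Nat.Prime 2) := ⟨Nat.prime_two⟩
    exact isExtraspecial_congr OneInv.isExtraspecial_QOne
      (Subgroup.equivMapOfInjective QOne C1.subtype C1.subtype_injective)

theorem card_QG : Nat.card QG = 2 ^ 9 := by
  rw [QG, Subgroup.card_subtype, OneInv.card_QOne]

/-- The fixed part. -/
noncomputable def RG : Subgroup Gc := QG ⊓ Subgroup.centralizer (AG : Set Gc)

/-- An element of the extraspecial group in the simple group. -/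
noncomputable def vq (q : ↥QOne) : Gc := ((q : ↥C1) : Gc)

theorem vq_inj : Function.Injective vq := fun _ _ h => Subtype.ext (Subtype.ext h)

theorem vq_mul (p q : ↥QOne) : vq (p * q) = vq p * vq q := rfl

theorem vq_mem (q : ↥QOne) : vq q ∈ QG := ⟨q.1, q.2, rfl⟩

theorem exists_vq {x : Gc} (hx : x ∈ QG) : ∃ q : ↥QOne, x = vq q := by
  obtain ⟨y, hy, rfl⟩ := hx
  exact ⟨⟨y, hy⟩, rfl⟩

theorem vq_mem_R (q : ↥QOne) : vq q ∈ RG ↔ ∃ u : I6 → F₂, psi q = join u 0 := by
  constructor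
  · rintro ⟨-, h⟩
    refine A0_fixed ?_
    have hc : cj aC q = q := by
      refine Subtype.ext (Subtype.ext ?_)
      show aG * vq q * aG⁻¹ = vq q
      rw [← mem_cent_AG.1 h, mul_inv_cancel_right]
    rw [← smat_aC, smat_psi, hc]
  · rintro ⟨u, hu⟩
    refine ⟨vq_mem q, mem_cent_AG.2 ?_⟩
    have h : psi (cj aC q) = psi q := by rw [← smat_psi, smat_aC, hu, A0_fix]
    rcases psi_eq h with e | e
    · have := congrArg vq e
      change aG * vq q * aG⁻¹ = vq q at this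
      exact (mul_inv_eq_iff_eq_mul.1 this).symm
    · exfalso
      have e3 : cj (aC ^ 3) q = q * zQ := by
        rw [pow_three', ← cj_cj, ← cj_cj, e, cj_mul, cj_zQ, e, cj_mul, cj_mul, cj_zQ, e, mul_assoc,
          mul_assoc, zQ_sq, mul_one]
      rw [aC_pow, show cj 1 q = q from Subtype.ext (by simp [cj_val])] at e3
      exact zQ_ne_one (left_eq_mul.1 e3)

theorem exists_R {x : Gc} (hx : x ∈ RG) : ∃ (q : ↥QOne) (u : I6 → F₂), x = vq q ∧ psi q = join u 0 := by
  obtain ⟨q, rfl⟩ := exists_vq hx.1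
  obtain ⟨u, hu⟩ := (vq_mem_R q).1 hx
  exact ⟨q, u, rfl, hu⟩

theorem exists_R_pre (u : I6 → F₂) : ∃ q : ↥QOne, vq q ∈ RG ∧ psi q = join u 0 :=
  ⟨pre (join u 0), (vq_mem_R _).2 ⟨u, psi_pre _⟩, psi_pre _⟩

theorem join_zero : join 0 0 = 0 := by decide +kernel

theorem bp_join : ∀ u v : I6 → F₂, bp q8 (join u 0) (join v 0) = bp q6 u v := by
  intro u v
  rw [bp, bp, ← join_add, q_join, q_join, q_join, add_zero, show qW 0 = 0 by decide, add_zero, add_zero,
    add_zero]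

theorem commute_R {p q : ↥QOne} {u v : I6 → F₂} (hp : psi p = join u 0) (hq : psi q = join v 0) :
    vq p * vq q = vq q * vq p ↔ bp q6 u v = 0 := by
  rw [← bp_join, ← hp, ← hq, ← commute_iff]
  exact ⟨fun h => vq_inj h, fun h => congrArg vq h⟩

theorem nondeg6' : ∀ u : I6 → F₂, u ≠ 0 → ∃ v, bp q6 u v = 1 := by
  unfold bp; decide +kernel

theorem central_R {q : ↥QOne} {u : I6 → F₂} (hq : psi q = join u 0)
    (h : ∀ x ∈ RG, x * vq q = vq q * x) : vq q ∈ Subgroup.zpowers zOne := by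
  have hu : u = 0 := by
    by_contra hne
    obtain ⟨v, hv⟩ := nondeg6' u hne
    obtain ⟨p, hpR, hp⟩ := exists_R_pre v
    rw [(commute_R hq hp).1 (h _ hpR).symm] at hv
    exact zero_ne_one hv
  rw [hu, join_zero] at hq
  rcases psi_eq_zero hq with rfl | rfl
  · exact one_mem _
  · rw [vq, zQ_val]; exact Subgroup.mem_zpowers _

theorem smat_commute {c : ↥C1} (hc : (c : Gc) * aG = aG * c) : smat c * A0 = A0 * smat c := by
  rw [← smat_aC]
  have e : c * aC = aC * c := Subtype.ext hc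
  exact (smatHom.map_mul c aC).symm.trans ((congrArg smat e).trans (smatHom.map_mul aC c))

theorem smat_pow (i : ℕ) : smat (aC ^ i) = blk 1 (rot ^ i) := by
  induction i with
  | zero => rw [pow_zero, pow_zero, blk_one]; exact smatHom.map_one
  | succ i ih =>
    rw [pow_succ, pow_succ, show smat (aC ^ i * aC) = smat (aC ^ i) * smat aC from smatHom.map_mul _ _, ih,
      smat_aC, A0, blk_mul, one_mul]

theorem pow_mem_AG (i : ℕ) : ((aC ^ i : ↥C1) : Gc) ∈ AG := ⟨i, by simp [aG]⟩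

/-- Acting like a power of the rotation. -/
theorem mem_of_smat {c : ↥C1} (hc : (c : Gc) * aG = aG * c) {i : ℕ} (h : smat c = blk 1 (rot ^ i)) :
    ∃ r ∈ RG, (c : Gc) = ((aC ^ i : ↥C1) : Gc) * r := by
  have hk : (aC ^ i)⁻¹ * c ∈ QOne := by
    rw [← ker_eq, MonoidHom.mem_ker, map_mul, map_inv, inv_mul_eq_one, sigma_eq_iff, smat_pow, h]
  refine ⟨_, ⟨⟨_, hk, rfl⟩, ?_⟩, ?_⟩
  · show ((aC ^ i : ↥C1) : Gc)⁻¹ * (c : Gc) ∈ Subgroup.centralizer (AG : Set Gc)
    refine mul_mem (inv_mem (mem_cent_AG.2 ?_)) (mem_cent_AG.2 hc)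
    exact (Commute.pow_left (Commute.refl aG) i).eq
  · show (c : Gc) = _ * (((aC ^ i : ↥C1) : Gc)⁻¹ * (c : Gc))
    rw [mul_inv_cancel_left]

theorem z_mem_R : zOne ∈ RG := by
  rw [← zQ_val]
  exact (vq_mem_R zQ).2 ⟨0, by rw [psi_zQ, join_zero]⟩

theorem centralizer_AR :
    Subgroup.centralizer ((AG ⊔ RG : Subgroup Gc) : Set Gc) ≤ AG ⊔ Subgroup.zpowers zOne := by
  intro x hx
  have hcomm : ∀ y ∈ AG ⊔ RG, y * x = x * y := fun y hy => Subgroup.mem_centralizer_iff.1 hx y hy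
  have hxC : x ∈ C1 :=
    Subgroup.mem_centralizer_singleton_iff.2 (hcomm zOne (Subgroup.mem_sup_right z_mem_R)).symm
  have hxa : ((⟨x, hxC⟩ : ↥C1) : Gc) * aG = aG * x :=
    (hcomm aG (Subgroup.mem_sup_left (Subgroup.mem_zpowers aG))).symm
  obtain ⟨M, i, hM, -⟩ := commute_cases (smat_commute (c := ⟨x, hxC⟩) hxa) (smat_preserve _)
  have hM1 : M = 1 := Matrix.ext_of_mulVec_single fun j => by
    obtain ⟨q, hqR, hq⟩ := exists_R_pre (Pi.single j 1)
    have hfix : cj ⟨x, hxC⟩ q = q := Subtype.ext (Subtype.ext (by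
      show x * vq q * x⁻¹ = vq q
      rw [← hcomm _ (Subgroup.mem_sup_right hqR), mul_inv_cancel_right]))
    have h := smat_psi ⟨x, hxC⟩ q
    rw [hfix, hq, hM, blk_join] at h
    rw [Matrix.one_mulVec, (join_inj h).1]
  rw [hM1] at hM
  obtain ⟨r, hr, e⟩ := mem_of_smat (c := ⟨x, hxC⟩) hxa hM
  obtain ⟨q, u, rfl, hu⟩ := exists_R hr
  change x = _ at e
  rw [e]
  refine mul_mem (Subgroup.mem_sup_left (pow_mem_AG _)) (Subgroup.mem_sup_right (central_R hu fun y hy => ?_))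
  have h1 : y * ((aC ^ (i : ℕ) : ↥C1) : Gc) = ((aC ^ (i : ℕ) : ↥C1) : Gc) * y :=
    (Subgroup.mem_centralizer_iff.1 hy.2 _ (pow_mem_AG _)).symm
  refine mul_left_cancel (a := ((aC ^ (i : ℕ) : ↥C1) : Gc)) ?_
  rw [← mul_assoc, ← h1, mul_assoc, ← e, hcomm y (Subgroup.mem_sup_right hy), e, mul_assoc]

/-- The data for a conjugate inside the fixed part. -/
theorem oddData {g : Gc} (h1 : g * zOne * g⁻¹ ∈ RG) (h2 : g * zOne * g⁻¹ ∉ Subgroup.zpowers zOne) :
    OddData zOne QG AG RG (Subgroup.centralizer (AG : Set Gc)) g where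
  data := QG_data
  hA := AG_le
  hodd := by rw [card_AG]; decide
  hR := rfl
  big := by rw [card_QG]; norm_num
  memR := h1
  nz := h2
  hM := by
    refine (sup_eq_left.2 ?_).symm
    intro y hy
    obtain ⟨i, rfl⟩ := Subgroup.mem_zpowers_iff.1 hy
    exact mem_cent_AG.2 ((Commute.refl aG).zpow_left i).eq
  hH := centralizer_AR

/-- Involutions of the fixed part are conjugate to the central one under the centraliser. -/
theorem exists_conj_R {q : ↥QOne} {u : I6 → F₂} (hq : psi q = join u 0) (hu0 : u ≠ 0) (hu : q6 u = 0) :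
    ∃ c : Gc, c ∈ Subgroup.centralizer (AG : Set Gc) ∧ c * vq q * c⁻¹ = zOne := by
  have hne : psi q ≠ 0 := fun e => hu0 (join_inj (hq.symm.trans (e.trans join_zero.symm))).1
  have hsing : q8 (psi q) = 0 := by rw [hq, q_join, hu, zero_add]; decide
  obtain ⟨g, hg⟩ := exists_conj_z hsing hne
  change g * zOne * g⁻¹ = vq q at hg
  have hnz : vq q ∉ Subgroup.zpowers zOne := fun h => by
    rcases QG_data.eq_or h with e | e
    · exact hne (by rw [show q = 1 from vq_inj e, psi_one])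
    · exact hne (by rw [show q = zQ from vq_inj (e.trans zQ_val.symm), psi_zQ])
  obtain ⟨c, hc, e⟩ := (oddData (g := g) (hg ▸ (vq_mem_R q).2 ⟨u, hq⟩) (hg ▸ hnz)).exists_conj
  rw [hg] at e
  exact ⟨c, sup_le (inf_le_right : RG ≤ _) inf_le_right hc, e⟩

/-! ### The section -/

/-- The centraliser of the element of order three. -/
noncomputable abbrev Ca : Subgroup Gc := Subgroup.centralizer (AG : Set Gc)

instance normal_AG : (AG.subgroupOf Ca).Normal :=
  ⟨fun n hn g => by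
    have h : (n : Gc) * (g : Gc) = (g : Gc) * n := Subgroup.mem_centralizer_iff.1 g.2 _ hn
    rw [Subgroup.mem_subgroupOf] at hn ⊢
    rw [Subgroup.coe_mul, Subgroup.coe_mul, InvMemClass.coe_inv, ← h, mul_inv_cancel_right]
    exact hn⟩

/-- The section. -/
abbrev Sz : Type := ↥Ca ⧸ AG.subgroupOf Ca

/-- The projection onto the section. -/
noncomputable def pr : ↥Ca →* Sz := QuotientGroup.mk' _

theorem pr_surjective : Function.Surjective pr := QuotientGroup.mk'_surjective _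

theorem pr_eq {x y : ↥Ca} : pr x = pr y ↔ (x : Gc)⁻¹ * y ∈ AG := QuotientGroup.eq

theorem pr_one {x : ↥Ca} : pr x = 1 ↔ (x : Gc) ∈ AG := QuotientGroup.eq_one_iff x

/-- The involution upstairs. -/
noncomputable def zc : ↥Ca := ⟨zOne, z_mem_R.2⟩

/-- The involution of the section. -/
noncomputable def zs : Sz := pr zc

theorem eq_one_of_R {x : Gc} (h1 : x ∈ RG) (h2 : x ∈ AG) : x = 1 :=
  LargeGeneration.eq_one_of_isPGroup_of_odd (O := QG) (K := AG)
    (haveI : Fact (Nat.Prime 2) := ⟨Nat.prime_two⟩; IsPGroup.of_card card_QG) (by rw [card_AG]; decide) h1.1 h2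

theorem pr_inj_R {x y : ↥Ca} (hx : (x : Gc) ∈ RG) (hy : (y : Gc) ∈ RG) (h : pr x = pr y) : x = y :=
  Subtype.ext (inv_mul_eq_one.1 (eq_one_of_R (mul_mem (inv_mem hx) hy) (pr_eq.1 h)))

theorem order_zs : orderOf zs = 2 := by
  refine orderOf_eq_prime ?_ fun h => ?_
  · rw [zs, ← map_pow, show zc ^ 2 = 1 from Subtype.ext (by rw [pow_two]; exact QG_data.mul_self_z), map_one]
  · exact QG_data.z_ne_one (eq_one_of_R z_mem_R (pr_one.1 h))

/-- The centraliser of the involution, upstairs. -/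
noncomputable abbrev Kc : Subgroup ↥Ca := Subgroup.centralizer ({zc} : Set ↥Ca)

/-- The centraliser of the involution, in the section. -/
noncomputable abbrev Hs : Subgroup Sz := Subgroup.centralizer ({zs} : Set Sz)

/-- The projection of centralisers. -/
noncomputable def pK : ↥Kc →* ↥Hs :=
  (pr.comp Kc.subtype).codRestrict _ fun x => Subgroup.mem_centralizer_singleton_iff.2 (by
    show pr x.1 * pr zc = pr zc * pr x.1
    rw [← map_mul, ← map_mul, Subgroup.mem_centralizer_singleton_iff.1 x.2])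

theorem pK_val (x : ↥Kc) : ((pK x : ↥Hs) : Sz) = pr x.1 := rfl

theorem pK_surjective : Function.Surjective pK := by
  rintro ⟨w, hw⟩
  obtain ⟨x, rfl⟩ := pr_surjective w
  have h := pr_eq.1 ((map_mul pr zc x).trans ((Subgroup.mem_centralizer_singleton_iff.1 hw).symm.trans
    (map_mul pr x zc).symm))
  have hcomm : zc * x = x * zc := by
    refine Subtype.ext (inv_mul_eq_one.1 ?_)
    -- the commutator is a fixed element of order three whose conjugate is again an involution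
    set d : Gc := ((zc * x : ↥Ca) : Gc)⁻¹ * ((x * zc : ↥Ca) : Gc) with hd
    have hdx : d = (x : Gc)⁻¹ * zOne⁻¹ * ((x : Gc) * zOne) := by rw [hd]; simp [zc]
    have hdz : zOne * d = d * zOne :=
      Subgroup.mem_centralizer_iff.1 z_mem_R.2 d h ▸ rfl
    have e1 : zOne * d = (zOne * (x : Gc)⁻¹ * zOne⁻¹ * (x : Gc)) * zOne := by rw [hdx]; group
    have hxz : (x : Gc)⁻¹ * zOne * x = d * zOne := by
      rw [hdx, QG_data.inv_z]
      simp only [mul_assoc]
      rw [QG_data.mul_self_z, mul_one]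
    have hsq : (d * zOne) * (d * zOne) = 1 := by
      rw [← hxz]
      calc (x : Gc)⁻¹ * zOne * x * ((x : Gc)⁻¹ * zOne * x) = (x : Gc)⁻¹ * (zOne * zOne) * x := by group
        _ = 1 := by rw [QG_data.mul_self_z, mul_one, inv_mul_cancel]
    have hd2 : d * d = 1 := by
      rw [← hsq, mul_assoc d zOne, ← mul_assoc zOne, hdz, mul_assoc d zOne zOne, QG_data.mul_self_z, mul_one]
    have hd3 : d ^ 3 = 1 := by
      obtain ⟨i, hi⟩ := Subgroup.mem_zpowers_iff.1 h
      rw [← hi, ← zpow_natCast, ← _root_.zpow_mul, mul_comm, _root_.zpow_mul, zpow_natCast, aG_pow, _root_.one_zpow]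
    rwa [pow_three', hd2, one_mul] at hd3
  exact ⟨⟨x, Subgroup.mem_centralizer_singleton_iff.2 hcomm.symm⟩, Subtype.ext rfl⟩

/-- Into the centraliser of the involution of Co1. -/
noncomputable def toC1 : ↥Kc →* ↥C1 :=
  (Ca.subtype.comp Kc.subtype).codRestrict _ fun x =>
    Subgroup.mem_centralizer_singleton_iff.2 (congrArg Subtype.val (Subgroup.mem_centralizer_singleton_iff.1 x.2))

theorem toC1_val (x : ↥Kc) : ((toC1 x : ↥C1) : Gc) = ((x : ↥Ca) : Gc) := rfl

theorem toC1_comm (x : ↥Kc) : ((toC1 x : ↥C1) : Gc) * aG = aG * (toC1 x : ↥C1) :=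
  mem_cent_AG.1 x.1.2

theorem kc_cases (x : ↥Kc) : ∃ (M : Matrix I6 I6 F₂) (i : Fin 3),
    smat (toC1 x) = blk M (rot ^ i.val) ∧ ∀ u, q6 (M *ᵥ u) = q6 u :=
  commute_cases (smat_commute (toC1_comm x)) (smat_preserve _)

/-- The upper block. -/
def topBlock (M : Matrix I8 I8 F₂) : Matrix I6 I6 F₂ := (TI * M * TM).toBlocks₁₁

theorem topBlock_blk (M : Matrix I6 I6 F₂) (D : Matrix (Fin 2) (Fin 2) F₂) : topBlock (blk M D) = M := by
  rw [topBlock, blk, Matrix.mul_assoc TI, Matrix.mul_assoc (TM * Matrix.fromBlocks M 0 0 D), TI_TM, Matrix.mul_one,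
    ← Matrix.mul_assoc, TI_TM, Matrix.one_mul, Matrix.toBlocks_fromBlocks₁₁]

/-- The six dimensional action, as matrices. -/
noncomputable def topHom : ↥Kc →* Matrix I6 I6 F₂ where
  toFun x := topBlock (smat (toC1 x))
  map_one' := by rw [map_one, show smat 1 = 1 from smatHom.map_one, ← blk_one, topBlock_blk]
  map_mul' x y := by
    obtain ⟨M, i, e, -⟩ := kc_cases x
    obtain ⟨N, j, f, -⟩ := kc_cases y
    rw [map_mul, show smat (toC1 x * toC1 y) = smat (toC1 x) * smat (toC1 y) from smatHom.map_mul _ _, e, f,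
      blk_mul, topBlock_blk, topBlock_blk, topBlock_blk]

/-- The six dimensional action. -/
noncomputable def tau : ↥Kc →* ↥O₆ :=
  topHom.toHomUnits.codRestrict _ fun x u _ => by
    obtain ⟨M, i, e, hM⟩ := kc_cases x
    show q6 (topBlock (smat (toC1 x)) *ᵥ u) = q6 u
    rw [e, topBlock_blk, hM]

theorem tau_val (x : ↥Kc) :
    (((tau x : ↥O₆) : Matrix.GeneralLinearGroup I6 F₂) : Matrix I6 I6 F₂) = topBlock (smat (toC1 x)) := rfl

theorem sigma_toC1 (x : ↥Kc) : ∃ i : ℕ, sigma (toC1 x) = emb (tau x) * a0 ^ i := by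
  obtain ⟨M, i, e, -⟩ := kc_cases x
  refine ⟨i, Subtype.ext (Units.ext ?_)⟩
  rw [Subgroup.coe_mul, Units.val_mul, emb_val, sigma_val, tau_val, e, topBlock_blk]
  have hp : (((a0 ^ (i : ℕ) : ↥O₈) : Matrix.GeneralLinearGroup I8 F₂) : Matrix I8 I8 F₂) =
      blk 1 (rot ^ (i : ℕ)) := by
    rw [← smat_pow, ← sigma_val, map_pow, sigma_aC]
  rw [hp, blk_mul, mul_one, one_mul]

theorem tau_eq_one {x : ↥Kc} (h : tau x = 1) :
    ∃ i : ℕ, ∃ r ∈ RG, ((x : ↥Ca) : Gc) = ((aC ^ i : ↥C1) : Gc) * r := by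
  obtain ⟨M, i, e, -⟩ := kc_cases x
  have hM : M = 1 := by
    rw [← topBlock_blk M (rot ^ i.val), ← e, ← tau_val, h]
    rfl
  rw [hM] at e
  exact ⟨i, mem_of_smat (toC1_comm x) e⟩

theorem tau_one_of_pow {x : ↥Kc} {i : ℕ} {r : Gc} (hr : r ∈ RG)
    (e : ((x : ↥Ca) : Gc) = ((aC ^ i : ↥C1) : Gc) * r) : tau x = 1 := by
  obtain ⟨⟨q, hq⟩, rfl⟩ := exists_vq hr.1
  have hx : toC1 x = aC ^ i * q := Subtype.ext e
  refine Subtype.ext (Units.ext ?_)
  rw [tau_val, hx, show smat (aC ^ i * q) = smat (aC ^ i) * smat q from smatHom.map_mul _ _, smat_pow,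
    mem_ker_iff.1 (le_ker hq), Matrix.mul_one, topBlock_blk]
  rfl

theorem range_tau : tau.range = Cfsg.Omega F₂ q6 := by
  refine le_antisymm ?_ ?_
  · rintro _ ⟨x, rfl⟩
    rw [← comap_omega, Subgroup.mem_comap]
    obtain ⟨i, e⟩ := sigma_toC1 x
    have hm : sigma (toC1 x) ∈ Cfsg.Omega F₂ q8 := range_sigma ▸ ⟨_, rfl⟩
    rw [e] at hm
    exact (Subgroup.mul_mem_cancel_right _ (pow_mem a0_mem i)).1 hm
  · intro g hg
    obtain ⟨k, hk⟩ : emb g ∈ sigma.range := by
      rw [range_sigma]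
      rw [← comap_omega] at hg
      exact hg
    have hk' : smat k = blk ((g : Matrix.GeneralLinearGroup I6 F₂) : Matrix I6 I6 F₂) 1 := by
      rw [← sigma_val, hk, emb_val]
    haveI := OneInv.finite_C1
    obtain ⟨n, hn, hcent⟩ := CfsgLib.Core.exists_centralizing_in_coset (A := Subgroup.zpowers aC)
      (N := QOne) (k := k) (by rw [Subgroup.normalizer_eq_top_iff.2 OneInv.QOne_normal]; exact le_top)
      (by
        rw [Nat.card_zpowers, orderOf_eq_prime aC_pow (fun e => aG_ne (congrArg Subtype.val e)),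
          OneInv.card_QOne]
        norm_num)
      (Or.inl inferInstance) (fun b hb => by
        rw [← ker_eq, MonoidHom.mem_ker, map_mul, map_mul, map_mul, map_inv, map_inv]
        obtain ⟨j, rfl⟩ := Subgroup.mem_zpowers_iff.1 hb
        have hc : Commute (sigma aC) (sigma k) := by
          refine Subtype.ext (Units.ext ?_)
          show smat aC * smat k = smat k * smat aC
          rw [smat_aC, hk', A0, blk_mul, blk_mul, one_mul, mul_one, one_mul, mul_one]
        rw [map_zpow, (hc.zpow_left j).eq, mul_inv_cancel_right, inv_mul_cancel])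
    have hca : ((k * n : ↥C1) : Gc) ∈ Ca :=
      mem_cent_AG.2 (congrArg Subtype.val (Subgroup.mem_centralizer_iff.1 hcent aC (Subgroup.mem_zpowers aC))).symm
    refine ⟨⟨⟨_, hca⟩, Subgroup.mem_centralizer_singleton_iff.2 (Subtype.ext
      (Subgroup.mem_centralizer_singleton_iff.1 (k * n).2))⟩, Subtype.ext (Units.ext ?_)⟩
    rw [tau_val]
    show topBlock (smat (k * n)) = _
    rw [show smat (k * n) = smat k * smat n from smatHom.map_mul _ _, mem_ker_iff.1 (le_ker hn), Matrix.mul_one,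
      hk', topBlock_blk]

/-- The fixed part, upstairs. -/
noncomputable def RK : Subgroup ↥Kc := RG.comap (Ca.subtype.comp Kc.subtype)

/-- The fixed part, in the section. -/
noncomputable def Rs : Subgroup ↥Hs := RK.map pK

theorem R_lift {x : Gc} (hx : x ∈ RG) : ∃ y : ↥Kc, ((y : ↥Ca) : Gc) = x ∧ y ∈ RK :=
  ⟨⟨⟨x, hx.2⟩, Subgroup.mem_centralizer_singleton_iff.2 (Subtype.ext (QG_data.commute_z hx.1).eq)⟩, rfl, hx⟩

theorem ker_quot_iff (x : ↥Kc) : pK x ∈ Rs ↔ tau x = 1 := by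
  constructor
  · rintro ⟨r, hr, e⟩
    have hA : ((r : ↥Ca) : Gc)⁻¹ * ((x : ↥Ca) : Gc) ∈ AG := pr_eq.1 (congrArg Subtype.val e)
    obtain ⟨i, hi⟩ := exists_pow_AG hA
    refine tau_one_of_pow (i := i) (r := ((r : ↥Ca) : Gc)) hr ?_
    have : ((x : ↥Ca) : Gc) = ((r : ↥Ca) : Gc) * aG ^ i := by
      rw [hi, mul_inv_cancel_left]
    rw [this, show ((aC ^ i : ↥C1) : Gc) = aG ^ i from by simp [aG]]
    exact ((show Commute ((r : ↥Ca) : Gc) aG from mem_cent_AG.1 r.1.2).pow_right i).eq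
  · intro h
    obtain ⟨i, r, hr, e⟩ := tau_eq_one h
    obtain ⟨y, hy, hyR⟩ := R_lift hr
    refine ⟨y, hyR, Subtype.ext (pr_eq.2 ?_)⟩
    show ((y : ↥Ca) : Gc)⁻¹ * ((x : ↥Ca) : Gc) ∈ AG
    rw [hy, e, show ((aC ^ i : ↥C1) : Gc) * r = r * ((aC ^ i : ↥C1) : Gc) from
      Subgroup.mem_centralizer_iff.1 hr.2 _ (pow_mem_AG i), inv_mul_cancel_left]
    exact pow_mem_AG i

instance Rs_normal : Rs.Normal := by
  have h : RK.Normal := ⟨fun n hn g => by
    show ((g : ↥Ca) : Gc) * ((n : ↥Ca) : Gc) * ((g : ↥Ca) : Gc)⁻¹ ∈ RG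
    refine ⟨QG_data.conj_mem (congrArg Subtype.val (Subgroup.mem_centralizer_singleton_iff.1 g.2)) hn.1,
      conj_cent g.1.2 n.1.2⟩⟩
  exact h.map _ pK_surjective

/-- The quotient of the centraliser in the section. -/
noncomputable def quotS : ↥Hs ⧸ Rs ≃* ↥(Cfsg.Omega F₂ q6) :=
  have hk : ((QuotientGroup.mk' Rs).comp pK).ker = tau.ker := by
    ext x
    rw [MonoidHom.mem_ker, MonoidHom.comp_apply, QuotientGroup.mk'_apply, QuotientGroup.eq_one_iff,
      MonoidHom.mem_ker]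
    exact ker_quot_iff x
  (((QuotientGroup.quotientKerEquivOfSurjective ((QuotientGroup.mk' Rs).comp pK)
      ((QuotientGroup.mk'_surjective _).comp pK_surjective)).symm).trans
    (QuotientGroup.quotientMulEquivOfEq hk)).trans
    ((QuotientGroup.quotientKerEquivRange tau).trans (MulEquiv.subgroupCongr range_tau))

theorem pK_inj_R {x y : ↥Kc} (hx : x ∈ RK) (hy : y ∈ RK) (h : pK x = pK y) : x = y :=
  Subtype.ext (pr_inj_R hx hy (congrArg Subtype.val h))

/-- The fixed part is isomorphic to its image. -/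
noncomputable def equivR : ↥RK ≃* ↥Rs :=
  MulEquiv.ofBijective (pK.subgroupMap RK)
    ⟨fun x y h => Subtype.ext (pK_inj_R x.2 y.2 (congrArg Subtype.val h)), MonoidHom.subgroupMap_surjective _ _⟩

/-- The fixed part and its lift. -/
noncomputable def equivRK : ↥RK ≃* ↥RG :=
  MulEquiv.ofBijective (((Ca.subtype.comp Kc.subtype).comp RK.subtype).codRestrict RG fun x => x.2)
    ⟨fun _ _ h => Subtype.ext (Subtype.ext (Subtype.ext (congrArg (fun t : ↥RG => (t : Gc)) h))),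
      fun y => by obtain ⟨k, hk, hkR⟩ := R_lift y.2; exact ⟨⟨k, hkR⟩, Subtype.ext hk⟩⟩

theorem card_RG : Nat.card RG = 2 ^ 7 := by
  have e : Nat.card RG = Nat.card (Bool × (I6 → F₂)) := by
    refine (Nat.card_eq_of_bijective (fun y : Bool × (I6 → F₂) =>
      (⟨vq (pre (join y.2 0) * if y.1 then zQ else 1), (vq_mem_R _).2 ⟨y.2, by
        rw [psi_mul, psi_pre]
        split_ifs
        · rw [psi_zQ, add_zero]
        · rw [psi_one, add_zero]⟩⟩ : RG)) ⟨?_, ?_⟩).symm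
    · rintro ⟨b, u⟩ ⟨b', u'⟩ h
      have h0 : vq (pre (join u 0) * if b = true then zQ else 1) =
          vq (pre (join u' 0) * if b' = true then zQ else 1) := congrArg (fun t : ↥RG => (t : Gc)) h
      have h' := vq_inj h0
      have hp := congrArg psi h'
      simp only [psi_mul, psi_pre, apply_ite psi, psi_zQ, psi_one, ite_self, add_zero] at hp
      obtain rfl := (join_inj hp).1
      have := mul_left_cancel h'
      cases b <;> cases b' <;> simp [zQ_ne_one, zQ_ne_one.symm] at this ⊢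
    · rintro ⟨x, hx⟩
      obtain ⟨q, u, rfl, hu⟩ := exists_R hx
      rcases psi_eq (hu.trans (psi_pre _).symm) with e | e
      · refine ⟨(false, u), Subtype.ext ?_⟩
        show vq (pre (join u 0) * (if false = true then zQ else 1)) = vq q
        refine congrArg vq ?_
        rw [if_neg (by decide), mul_one, e]
      · refine ⟨(true, u), Subtype.ext ?_⟩
        show vq (pre (join u 0) * (if true = true then zQ else 1)) = vq q
        refine congrArg vq ?_
        rw [if_pos rfl, e]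
  rw [e, Nat.card_prod, Nat.card_eq_fintype_card, Nat.card_eq_fintype_card, Fintype.card_bool,
    Fintype.card_fun, Fintype.card_sum, Fintype.card_sum, Fintype.card_fin, ZMod.card]
  norm_num

theorem noncommute_R : ∃ x ∈ RG, ∃ y ∈ RG, x * y ≠ y * x := by
  obtain ⟨u, hu, -⟩ := exists_singular6
  obtain ⟨v, hv⟩ := nondeg6' u hu
  obtain ⟨p, hpR, hp⟩ := exists_R_pre u
  obtain ⟨q, hqR, hq⟩ := exists_R_pre v
  exact ⟨_, hpR, _, hqR, fun h => zero_ne_one (((commute_R hp hq).1 h).symm.trans hv)⟩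

theorem isExtraspecial_Rs : IsExtraspecial 2 ↥Rs := by
  haveI : Fact (Nat.Prime 2) := ⟨Nat.prime_two⟩
  have h : IsExtraspecial 2 ↥RG := QG_data.isExtraspecial_sub inf_le_left
    (by obtain ⟨x, hx, y, hy, hne⟩ := noncommute_R; exact ⟨x, hx, y, hy, hne⟩)
    (fun y hy hcomm => by
      obtain ⟨q, u, rfl, hu⟩ := exists_R hy
      exact central_R hu fun w hw => (hcomm w hw).eq)
  exact isExtraspecial_congr h (equivRK.symm.trans equivR)

theorem card_Rs : Nat.card Rs = 2 ^ 7 := by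
  rw [← card_RG]
  exact (Nat.card_congr (equivRK.symm.trans equivR).toEquiv).symm

theorem centralizer_Rs : Subgroup.centralizer (Rs : Set ↥Hs) ≤ Rs := by
  intro w hw
  obtain ⟨x, rfl⟩ := pK_surjective w
  have hcomm : ∀ r ∈ RG, r * ((x : ↥Ca) : Gc) = ((x : ↥Ca) : Gc) * r := by
    intro r hr
    obtain ⟨y, rfl, hy⟩ := R_lift hr
    have h1 := Subgroup.mem_centralizer_iff.1 hw (pK y) ⟨y, hy, rfl⟩
    have hy' : x * y * x⁻¹ ∈ RK :=
      ⟨QG_data.conj_mem (congrArg Subtype.val (Subgroup.mem_centralizer_singleton_iff.1 x.2)) hy.1,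
        conj_cent x.1.2 y.1.2⟩
    have h2 := pK_inj_R hy' hy (by rw [map_mul, map_mul, map_inv, ← h1, mul_inv_cancel_right])
    exact (congrArg (fun t : ↥Kc => ((t : ↥Ca) : Gc)) (mul_inv_eq_iff_eq_mul.1 h2)).symm
  have hx : ((x : ↥Ca) : Gc) ∈ AG ⊔ Subgroup.zpowers zOne := by
    refine centralizer_AR ?_
    have hle : AG ⊔ RG ≤ Subgroup.centralizer ({((x : ↥Ca) : Gc)} : Set Gc) := sup_le
      (fun b hb => Subgroup.mem_centralizer_singleton_iff.2 (Subgroup.mem_centralizer_iff.1 x.1.2 b hb))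
      (fun r hr => Subgroup.mem_centralizer_singleton_iff.2 (hcomm r hr))
    exact Subgroup.mem_centralizer_iff.2 fun y hy => Subgroup.mem_centralizer_singleton_iff.1 (hle hy)
  refine (ker_quot_iff x).2 ?_
  obtain ⟨b, hb, w, hw', e⟩ := (CfsgLib.Core.mem_sup_iff_mul (H := AG) (N := Subgroup.zpowers zOne)
    (le_trans (fun b hb => Subgroup.mem_centralizer_iff.2 fun y hy => by
      obtain ⟨j, rfl⟩ := Subgroup.mem_zpowers_iff.1 hy
      exact ((show Commute b zOne from Subgroup.mem_centralizer_singleton_iff.1 (AG_le hb)).zpow_right j).symm.eq)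
      (Subgroup.centralizer_le_normalizer _))).1 hx
  obtain ⟨i, rfl⟩ := exists_pow_AG hb
  refine tau_one_of_pow (i := i) (Subgroup.zpowers_le.2 z_mem_R hw') ?_
  rw [show ((aC ^ i : ↥C1) : Gc) = aG ^ i from by simp [aG]]
  exact e

/-- An element of order three. -/
def g3 : Matrix I6 I6 F₂ := Matrix.fromBlocks 1 0 0 rot

theorem g3_facts : g3 * (g3 * g3) = 1 ∧ g3 * g3 * g3 = 1 ∧ g3 ≠ 1 ∧ ∀ u, q6 (g3 *ᵥ u) = q6 u := by
  decide +kernel

theorem exists_three : ∃ w : ↥Hs ⧸ Rs, w ^ 3 = 1 ∧ w ≠ 1 := by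
  let t : ↥O₆ := ⟨⟨g3, g3 * g3, g3_facts.1, g3_facts.2.1⟩, fun u _ => g3_facts.2.2.2 u⟩
  have ht3 : t ^ 3 = 1 := by
    refine Subtype.ext (Units.ext ?_)
    rw [pow_three', Subgroup.coe_mul, Subgroup.coe_mul, Units.val_mul, Units.val_mul]
    exact g3_facts.2.1
  have htO : t ∈ Cfsg.Omega F₂ q6 := by
    have e : t = (t * t) * (t * t) := by
      calc t = t ^ 3 * t := by rw [ht3, one_mul]
        _ = _ := by simp only [pow_three', mul_assoc]
    rw [e, ← pow_two]
    exact Subgroup.sq_mem_of_index_two index6 _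
  refine ⟨quotS.symm ⟨t, htO⟩, ?_, fun e => ?_⟩
  · rw [← map_pow, show (⟨t, htO⟩ : ↥(Cfsg.Omega F₂ q6)) ^ 3 = 1 from Subtype.ext ht3, map_one]
  · rw [EmbeddingLike.map_eq_one_iff] at e
    exact g3_facts.2.2.1 (congrArg (fun a : ↥O₆ => ((a : Matrix.GeneralLinearGroup I6 F₂) : Matrix I6 I6 F₂))
      (congrArg Subtype.val e))

theorem simple_quotS : IsSimpleGroup (↥Hs ⧸ Rs) := by
  haveI := simple6
  exact quotS.isSimpleGroup

theorem gFitting_Hs : generalizedFittingSubgroup ↥Hs = Rs := by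
  haveI : Fact (Nat.Prime 2) := ⟨Nat.prime_two⟩
  haveI := simple_quotS
  have hp : pCore 2 ↥Hs = Rs := by
    refine le_antisymm ?_ (Core.le_pCore (IsPGroup.of_card card_Rs))
    intro x hx
    have h1 : QuotientGroup.mk' Rs x ∈ pCore 2 (↥Hs ⧸ Rs) :=
      Core.map_pCore_le _ (QuotientGroup.mk'_surjective _) ⟨x, hx, rfl⟩
    rcases (Core.normal_pCore 2 (↥Hs ⧸ Rs)).eq_bot_or_eq_top with h | h
    · rwa [h, Subgroup.mem_bot, QuotientGroup.mk'_apply, QuotientGroup.eq_one_iff] at h1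
    · exfalso
      obtain ⟨w, hw3, hw1⟩ := exists_three
      obtain ⟨k, hk⟩ := Core.isPGroup_pCore 2 (↥Hs ⧸ Rs) ⟨w, h ▸ Subgroup.mem_top w⟩
      have hd := Nat.dvd_gcd (orderOf_dvd_of_pow_eq_one hw3)
        (orderOf_dvd_of_pow_eq_one (congrArg Subtype.val hk))
      rw [show Nat.gcd 3 (2 ^ k) = 1 from Nat.Coprime.pow_right k (by norm_num)] at hd
      exact hw1 (orderOf_eq_one_iff.1 (Nat.dvd_one.1 hd))
  rw [← hp]
  exact Components.gFitting_eq_pCore_of_charP (by rw [hp]; exact centralizer_Rs)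

theorem irreducible_Rs (W : Subgroup ↥Hs) (hW : W.Normal) (hWR : W ≤ Rs) :
    W = Rs ∨ ∀ x ∈ W, (x : Sz) ∈ Subgroup.zpowers zs := by
  let V : Set (I6 → F₂) := {u | ∃ y : ↥Kc, ∃ q : ↥QOne, y ∈ RK ∧ pK y ∈ W ∧ ((y : ↥Ca) : Gc) = vq q ∧ psi q = join u 0}
  have hrest : ∀ x ∈ W, ∃ y : ↥Kc, ∃ q : ↥QOne, ∃ u : I6 → F₂, y ∈ RK ∧ pK y = x ∧
      ((y : ↥Ca) : Gc) = vq q ∧ psi q = join u 0 := by
    intro x hx
    obtain ⟨y, hy, rfl⟩ := hWR hx
    obtain ⟨q, u, e, hu⟩ := exists_R (hy : ((y : ↥Ca) : Gc) ∈ RG)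
    exact ⟨y, q, u, hy, rfl, e, hu⟩
  by_cases hV : ∃ s ∈ V, s ≠ 0
  · obtain ⟨s, hs, hs0⟩ := hV
    have hall : ∀ u, u ∈ V := by
      refine irreducible6 V ?_ ?_ s hs hs0
      · rintro a ⟨y, q, hy, hyW, e, ha⟩ b ⟨y', q', hy', hyW', e', hb⟩
        refine ⟨y * y', q * q', mul_mem hy hy', by rw [map_mul]; exact mul_mem hyW hyW', ?_, ?_⟩
        · rw [Subgroup.coe_mul, Subgroup.coe_mul, e, e', vq_mul]
        · rw [psi_mul, ha, hb, ← join_add, add_zero]
      · intro g hg a ha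
        obtain ⟨y, q, hy, hyW, e, ha⟩ := ha
        obtain ⟨x, rfl⟩ : g ∈ tau.range := range_tau ▸ hg
        refine ⟨x * y * x⁻¹, cj (toC1 x) q, ?_, ?_, ?_, ?_⟩
        · exact ⟨QG_data.conj_mem (congrArg Subtype.val (Subgroup.mem_centralizer_singleton_iff.1 x.2)) hy.1,
            conj_cent x.1.2 y.1.2⟩
        · rw [map_mul, map_mul, map_inv]; exact hW.conj_mem _ hyW _
        · simp only [Subgroup.coe_mul, InvMemClass.coe_inv, e]
          rfl
        · obtain ⟨M, i, hM, -⟩ := kc_cases x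
          rw [← smat_psi, ha, hM, blk_join, Matrix.mulVec_zero, tau_val, hM, topBlock_blk]
    left
    refine le_antisymm hWR ?_
    obtain ⟨u, hu, -⟩ := exists_singular6
    obtain ⟨v, hv⟩ := nondeg6' u hu
    obtain ⟨y, q, hy, hyW, e, hq⟩ := hall u
    obtain ⟨y', q', hy', hyW', e', hq'⟩ := hall v
    obtain ⟨zk, hzk, hzkR⟩ := R_lift z_mem_R
    have hzW : pK zk ∈ W := by
      have hne : ¬ ((y : ↥Ca) : Gc) * ((y' : ↥Ca) : Gc) = ((y' : ↥Ca) : Gc) * ((y : ↥Ca) : Gc) := fun h =>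
        zero_ne_one (((commute_R hq hq').1 (e ▸ e' ▸ h)).symm.trans hv)
      have hc : zk = y * y' * y⁻¹ * y'⁻¹ := by
        refine Subtype.ext (Subtype.ext ?_)
        rw [hzk]
        rcases QG_data.eq_or (QG_data.comm_mem hy.1 hy'.1) with h | h
        · exact absurd (mul_inv_eq_iff_eq_mul.1 (mul_inv_eq_one.1 h)) hne
        · exact h.symm
      rw [hc, map_mul, map_mul, map_mul, map_inv, map_inv]
      exact mul_mem (mul_mem (mul_mem hyW hyW') (inv_mem hyW)) (inv_mem hyW')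
    rintro _ ⟨x, hx, rfl⟩
    obtain ⟨p, w, ep', hp⟩ := exists_R (hx : ((x : ↥Ca) : Gc) ∈ RG)
    have ep : ((x : ↥Ca) : Gc) = vq p := ep'
    obtain ⟨y, q, hy, hyW, e, hq⟩ := hall w
    rcases psi_eq (hp.trans hq.symm) with h | h
    · rwa [show x = y from Subtype.ext (Subtype.ext (by rw [ep, e, h]))]
    · rw [show x = y * zk from Subtype.ext (Subtype.ext (by
        rw [Subgroup.coe_mul, Subgroup.coe_mul, ep, e, h, hzk, vq_mul]
        exact congrArg _ zQ_val)), map_mul]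
      exact mul_mem hyW hzW
  · right
    intro x hx
    obtain ⟨y, q, u, hy, rfl, e, hu⟩ := hrest x hx
    have hu0 : u = 0 := by
      by_contra hne
      exact hV ⟨u, ⟨y, q, hy, hx, e, hu⟩, hne⟩
    rw [hu0, join_zero] at hu
    rw [pK_val]
    rcases psi_eq_zero hu with rfl | rfl
    · rw [show (y : ↥Ca) = 1 from Subtype.ext e, map_one]; exact one_mem _
    · rw [show (y : ↥Ca) = zc from Subtype.ext (e.trans zQ_val)]
      exact Subgroup.mem_zpowers zs

theorem exists_singular_pair : ∀ t : I6 → F₂, t ≠ 0 → q6 t = 0 → ∃ u : I6 → F₂,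
    u ≠ 0 ∧ q6 u = 0 ∧ bp q6 u t = 0 ∧ ∃ v : I6 → F₂, v ≠ 0 ∧ q6 v = 0 ∧ bp q6 v t = 0 ∧ bp q6 u v = 1 := by
  unfold bp; decide +kernel

/-- The involution is not weakly closed, upstairs. -/
theorem exists_swap : ∃ (c : Gc) (t : ↥QOne) (ut : I6 → F₂), c ∈ Ca ∧ ut ≠ 0 ∧ q6 ut = 0 ∧
    psi t = join ut 0 ∧ c * zOne * c⁻¹ = vq t ∧ c⁻¹ * zOne * c ∈ RG ∧ c⁻¹ * zOne * c ≠ zOne := by
  obtain ⟨u, hu0, hu⟩ := exists_singular6
  obtain ⟨q, hqR, hq⟩ := exists_R_pre u
  have hne : psi q ≠ 0 := fun e => hu0 (join_inj (hq.symm.trans (e.trans join_zero.symm))).1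
  obtain ⟨g, hg⟩ := exists_conj_z (a := q) (by rw [hq, q_join, hu, zero_add]; decide) hne
  change g * zOne * g⁻¹ = vq q at hg
  obtain ⟨c, hc, ec⟩ := exists_conj_R hq hu0 hu
  have hcz : c⁻¹ * zOne * c = vq q := by rw [← ec]; group
  -- the conjugate of the extraspecial group at the other involution
  have hcg : Commute (c * g) zOne := by
    have : c * (g * zOne * g⁻¹) * c⁻¹ = zOne := by rw [hg, ec]
    show c * g * zOne = zOne * (c * g)
    calc c * g * zOne = c * (g * zOne * g⁻¹) * c⁻¹ * (c * g) := by group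
      _ = _ := by rw [this]
  have hzQ : zOne ∈ QG.map (MulAut.conj g).toMonoidHom := QG_data.mem_conj (by rw [card_QG]; norm_num)
    (hg ▸ vq_mem q)
  obtain ⟨w, hw, ew⟩ := hzQ
  change g * w * g⁻¹ = zOne at ew
  have htQ : c * zOne * c⁻¹ ∈ QG := by
    have := QG_data.conj_mem hcg hw
    rwa [show c * g * w * (c * g)⁻¹ = c * (g * w * g⁻¹) * c⁻¹ by group, ew] at this
  have htR : c * zOne * c⁻¹ ∈ RG := ⟨htQ, conj_cent hc z_mem_R.2⟩
  obtain ⟨t, ut, et, ht⟩ := exists_R htR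
  have hnez : vq q ≠ zOne := fun e => hne (by rw [show q = zQ from vq_inj (e.trans zQ_val.symm), psi_zQ])
  have hut : ut ≠ 0 := by
    rintro rfl
    rw [join_zero] at ht
    rcases psi_eq_zero ht with rfl | rfl
    · exact QG_data.z_ne_one (conj_eq_one_iff.1 et)
    · refine hnez ?_
      have e2 : c * zOne * c⁻¹ = zOne := et.trans zQ_val
      rw [← hcz]
      calc c⁻¹ * zOne * c = c⁻¹ * (c * zOne * c⁻¹) * c := by rw [e2]
        _ = zOne := by group
  have hsq : t * t = 1 := vq_inj (by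
    rw [vq_mul, ← et, conj_mul, QG_data.mul_self_z, mul_one, mul_inv_cancel]; rfl)
  have hqt : q6 ut = 0 := by
    have := sq_eq t
    rw [hsq, ht, q_join, show qW 0 = 0 by decide, add_zero] at this
    refine zf_inj (this.symm.trans ?_)
    rw [zf, if_neg (by decide)]
  exact ⟨c, t, ut, hc, hut, hqt, ht, et, hcz ▸ hqR, hcz ▸ hnez⟩

theorem nwc_Rs : ∃ g : Sz, (∃ hq : g * zs * g⁻¹ ∈ Hs, (⟨g * zs * g⁻¹, hq⟩ : ↥Hs) ∈ Rs) ∧
    g * zs * g⁻¹ ≠ zs := by
  obtain ⟨c, -, -, hc, -, -, -, -, hR, hne⟩ := exists_swap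
  obtain ⟨y, hy, hyR⟩ := R_lift hR
  have e : pr (⟨c, hc⟩ : ↥Ca)⁻¹ * zs * (pr (⟨c, hc⟩ : ↥Ca)⁻¹)⁻¹ = ((pK y : ↥Hs) : Sz) := by
    rw [pK_val, zs, ← map_inv, ← map_mul, ← map_mul]
    exact congrArg pr (Subtype.ext (by simp [hy, zc]))
  refine ⟨pr (⟨c, hc⟩ : ↥Ca)⁻¹, ⟨e ▸ (pK y).2, ?_⟩, fun h => ?_⟩
  · exact ⟨y, hyR, Subtype.ext e.symm⟩
  · rw [e, pK_val, zs] at h
    exact hne (hy ▸ congrArg Subtype.val (pr_inj_R hyR z_mem_R h))

theorem wcl_Rs : Subgroup.closure {x : ↥Hs | IsConj zs (x : Sz)} ≠ Rs := by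
  obtain ⟨c, t, ut, hc, hut, hqt, ht, et, -, -⟩ := exists_swap
  obtain ⟨u, hu0, hu, hut', v, hv0, hv, hvt, huv⟩ := exists_singular_pair ut hut hqt
  obtain ⟨p, hpR, hp⟩ := exists_R_pre u
  obtain ⟨q, hqR, hq⟩ := exists_R_pre v
  intro hcl
  have key : ∀ (s : ↥QOne) (w : I6 → F₂), psi s = join w 0 → w ≠ 0 → q6 w = 0 → bp q6 w ut = 0 →
      c⁻¹ * vq s * c ∈ RG := by
    intro s w hs hw0 hw hwt
    have hsR : vq s ∈ RG := (vq_mem_R s).2 ⟨w, hs⟩
    have hyC : c⁻¹ * vq s * c ∈ Ca := mul_mem (mul_mem (inv_mem hc) hsR.2) hc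
    have hcomm : vq s * (c * zOne * c⁻¹) = c * zOne * c⁻¹ * vq s := by
      rw [et]; exact (commute_R hs ht).2 hwt
    have hyz : (⟨_, hyC⟩ : ↥Ca) ∈ Kc := by
      refine Subgroup.mem_centralizer_singleton_iff.2 (Subtype.ext ?_)
      show c⁻¹ * vq s * c * zOne = zOne * (c⁻¹ * vq s * c)
      calc c⁻¹ * vq s * c * zOne = c⁻¹ * (vq s * (c * zOne * c⁻¹)) * c := by group
        _ = _ := by rw [hcomm]; group
    obtain ⟨d, hd, ed⟩ := exists_conj_R hs hw0 hw
    have hmem : pK ⟨_, hyz⟩ ∈ Rs := by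
      rw [← hcl]
      refine Subgroup.subset_closure (isConj_comm.2 (isConj_iff.2 ⟨pr (⟨d * c, mul_mem hd hc⟩ : ↥Ca), ?_⟩))
      rw [pK_val, zs, ← map_inv, ← map_mul, ← map_mul]
      refine congrArg pr (Subtype.ext ?_)
      show d * c * (c⁻¹ * vq s * c) * (d * c)⁻¹ = zOne
      rw [← ed]; group
    obtain ⟨r, hr, er⟩ := hmem
    have hA : ((r : ↥Ca) : Gc)⁻¹ * (c⁻¹ * vq s * c) ∈ AG := pr_eq.1 (congrArg Subtype.val er)
    have hrA : ∀ b ∈ AG, b * ((r : ↥Ca) : Gc) = ((r : ↥Ca) : Gc) * b := fun b hb =>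
      Subgroup.mem_centralizer_iff.1 r.1.2 b hb
    obtain ⟨i, hi⟩ := exists_pow_AG hA
    have e1 : c⁻¹ * vq s * c = ((r : ↥Ca) : Gc) * aG ^ i := by
      rw [hi, mul_inv_cancel_left]
    -- an involution, so that the part of order three is trivial
    have hbA : aG ^ i ∈ AG := Subgroup.pow_mem _ (Subgroup.mem_zpowers aG) i
    have hss : vq s * vq s = 1 := by
      rw [← vq_mul, sq_eq, hs, q_join, hw, zero_add, show qW 0 = 0 by decide, zf, if_neg (by decide)]
      rfl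
    have h1 : ((r : ↥Ca) : Gc) * ((r : ↥Ca) : Gc) * (aG ^ i * aG ^ i) = 1 := by
      calc _ = (((r : ↥Ca) : Gc) * aG ^ i) * (((r : ↥Ca) : Gc) * aG ^ i) := by
            simp only [mul_assoc]
            rw [← mul_assoc (aG ^ i) _ (aG ^ i), hrA _ hbA, mul_assoc]
        _ = 1 := by
            rw [← e1, show c⁻¹ * vq s * c * (c⁻¹ * vq s * c) = c⁻¹ * (vq s * vq s) * c by group, hss]
            group
    have h2 : aG ^ i * aG ^ i = 1 := eq_one_of_R
      ((inv_eq_of_mul_eq_one_right h1) ▸ inv_mem (mul_mem hr hr)) (mul_mem hbA hbA)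
    have h3 : aG ^ i = 1 := by
      have : (aG ^ i) ^ 3 = 1 := by rw [← pow_mul, mul_comm, pow_mul, aG_pow, one_pow]
      rwa [pow_three', h2, one_mul] at this
    rw [e1, h3, mul_one]
    exact hr
  have h1 := key p u hp hu0 hu hut'
  have h2 := key q v hq hv0 hv hvt
  have hne : vq p * vq q ≠ vq q * vq p := fun h => zero_ne_one (((commute_R hp hq).1 h).symm.trans huv)
  rcases QG_data.eq_or (QG_data.comm_mem h1.1 h2.1) with e | e
  · refine hne ?_
    have := congrArg (fun x => c * x * c⁻¹) (mul_inv_eq_iff_eq_mul.1 (mul_inv_eq_one.1 e))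
    simpa [mul_assoc] using this
  · rcases QG_data.eq_or (QG_data.comm_mem hpR.1 hqR.1) with f | f
    · exact hne (mul_inv_eq_iff_eq_mul.1 (mul_inv_eq_one.1 f))
    · -- the commutator would be fixed by the conjugation
      have h3 : c⁻¹ * zOne * c = zOne := by
        calc c⁻¹ * zOne * c = c⁻¹ * (vq p * vq q * (vq p)⁻¹ * (vq q)⁻¹) * c := by rw [f]
          _ = zOne := by rw [← e]; group
      refine hut ((join_inj (u' := 0) (w' := 0) (ht.symm.trans ?_)).1)
      have : t = zQ := vq_inj (by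
        rw [← et]
        refine Eq.trans ?_ zQ_val.symm
        calc c * zOne * c⁻¹ = c * (c⁻¹ * zOne * c) * c⁻¹ := by rw [h3]
          _ = zOne := by group)
      rw [this, psi_zQ, join_zero]

theorem simple_Sz : IsSimpleGroup Sz :=
  CfsgLib.ThreeTrans.SimpleOfIrreducible.main zs order_zs Rs gFitting_Hs isExtraspecial_Rs nwc_Rs simple_quotS
    irreducible_Rs wcl_Rs

theorem not_comm_Sz : ¬ IsMulCommutative Sz := by
  intro h
  obtain ⟨x, hx, y, hy, hne⟩ := noncommute_R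
  refine hne (congrArg Subtype.val (pr_inj_R (x := ⟨x, hx.2⟩ * ⟨y, hy.2⟩) (y := ⟨y, hy.2⟩ * ⟨x, hx.2⟩)
    (mul_mem hx hy) (mul_mem hy hx) ?_))
  rw [map_mul, map_mul]
  exact h.1.1 _ _

/-! ### In Co0 -/

theorem exists_a' : ∃ a' : ↥Cfsg.Co0, (QuotientGroup.mk a' : Gc) = aG ∧ orderOf a' = 3 := by
  obtain ⟨b, hb⟩ := QuotientGroup.mk_surjective aG
  have h3 : (QuotientGroup.mk (b ^ 3) : Gc) = 1 := by rw [QuotientGroup.mk_pow, hb, aG_pow]
  have h6 : b ^ 6 = 1 := by
    rw [show 6 = 3 * 2 from rfl, pow_mul, pow_two]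
    rcases OneInv.center_cases ((QuotientGroup.eq_one_iff _).1 h3) with e | e <;> rw [e]
    · exact one_mul 1
    · exact OneInv.negElt_sq
  refine ⟨b ^ 4, ?_, orderOf_eq_prime ?_ fun e => ?_⟩
  · rw [QuotientGroup.mk_pow, hb, show 4 = 3 + 1 from rfl, pow_add, aG_pow, one_mul, pow_one]
  · rw [← pow_mul, show 4 * 3 = 6 * 2 from rfl, pow_mul, h6, one_pow]
  · have : aG ^ 4 = 1 := by rw [← hb, ← QuotientGroup.mk_pow, e]; rfl
    rw [show 4 = 3 + 1 from rfl, pow_add, aG_pow, one_mul, pow_one] at this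
    exact aG_ne this

/-- The Suzuki section. -/
theorem suz_section : ∃ A : Subgroup ↥Cfsg.Co0, Nat.card A = 3 ∧
    ∃ (hn : ((A ⊔ Subgroup.center ↥Cfsg.Co0).subgroupOf (Subgroup.centralizer (A : Set ↥Cfsg.Co0))).Normal),
    ∃ (S : Type) (_ : Group S) (_ : Finite S), Nonempty (S ≃* ↥(Subgroup.centralizer (A : Set ↥Cfsg.Co0)) ⧸
      (A ⊔ Subgroup.center ↥Cfsg.Co0).subgroupOf (Subgroup.centralizer (A : Set ↥Cfsg.Co0))) ∧
    IsSimpleGroup S ∧ ¬ IsMulCommutative S ∧ ∃ z : S, orderOf z = 2 ∧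
    ∃ (Q : Subgroup (Subgroup.centralizer ({z} : Set S))) (_ : Q.Normal),
      Cfsg.generalizedFittingSubgroup (Subgroup.centralizer ({z} : Set S)) = Q ∧ Cfsg.IsExtraspecial 2 Q ∧
      Nat.card Q = 2 ^ 7 ∧ Nonempty ((Subgroup.centralizer ({z} : Set S)) ⧸ Q ≃*
        Cfsg.Omega (ZMod 2) (Cfsg.quadFormMinus 2 (ZMod 2) 1 1)) ∧
      ∃ g : S, (∃ hq : g * z * g⁻¹ ∈ Subgroup.centralizer ({z} : Set S),
        (⟨g * z * g⁻¹, hq⟩ : Subgroup.centralizer ({z} : Set S)) ∈ Q) ∧ g * z * g⁻¹ ≠ z := by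
  obtain ⟨a', ha', ho⟩ := exists_a'
  set A := Subgroup.zpowers a' with hA
  have hmem : ∀ {g : ↥Cfsg.Co0}, g ∈ Subgroup.centralizer (A : Set ↥Cfsg.Co0) ↔ g * a' = a' * g := by
    intro g
    constructor
    · exact fun h => (Subgroup.mem_centralizer_iff.1 h a' (Subgroup.mem_zpowers a')).symm
    · intro h
      rw [Subgroup.mem_centralizer_iff]
      intro y hy
      obtain ⟨i, rfl⟩ := Subgroup.mem_zpowers_iff.1 hy
      exact ((show Commute g a' from h).zpow_right i).symm.eq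
  let f : ↥(Subgroup.centralizer (A : Set ↥Cfsg.Co0)) →* ↥Ca :=
    ((QuotientGroup.mk' (Subgroup.center ↥Cfsg.Co0)).comp (Subgroup.subtype _)).codRestrict _ fun g => by
      refine mem_cent_AG.2 ?_
      show (QuotientGroup.mk (g : ↥Cfsg.Co0) : Gc) * aG = aG * QuotientGroup.mk (g : ↥Cfsg.Co0)
      rw [← ha', ← QuotientGroup.mk_mul, hmem.1 g.2, QuotientGroup.mk_mul]
  have hf : Function.Surjective f := by
    rintro ⟨x, hx⟩
    obtain ⟨g, rfl⟩ := QuotientGroup.mk_surjective x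
    refine ⟨⟨g, hmem.2 ?_⟩, rfl⟩
    have h : (QuotientGroup.mk (g * a' * g⁻¹) : Gc) = QuotientGroup.mk a' := by
      rw [QuotientGroup.mk_mul, QuotientGroup.mk_mul, QuotientGroup.mk_inv, ha', mem_cent_AG.1 hx,
        mul_inv_cancel_right]
    rw [QuotientGroup.eq] at h
    rcases OneInv.center_cases h with e | e
    · exact mul_inv_eq_iff_eq_mul.1 (inv_mul_eq_one.1 e)
    · exfalso
      have e' : a' = g * a' * g⁻¹ * negElt := inv_mul_eq_iff_eq_mul.1 e
      have hc : Commute (g * a' * g⁻¹) negElt :=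
        Subgroup.mem_center_iff.1 OneInv.neg_mem_center _
      have hp := congrArg (fun y => y ^ 3) e'
      have h3 : a' ^ 3 = 1 := ho ▸ pow_orderOf_eq_one a'
      have hg3 : (g * a' * g⁻¹) ^ 3 = 1 := by rw [conj_pow, h3, mul_one, mul_inv_cancel]
      have hn3 : negElt ^ 3 = negElt := by rw [pow_three', OneInv.negElt_sq, one_mul]
      change a' ^ 3 = (g * a' * g⁻¹ * negElt) ^ 3 at hp
      rw [h3, hc.mul_pow, hg3, hn3, one_mul] at hp
      exact OneInv.neg_not_mem_CU (hp ▸ one_mem _)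
  have hker : (pr.comp f).ker =
      (A ⊔ Subgroup.center ↥Cfsg.Co0).subgroupOf (Subgroup.centralizer (A : Set ↥Cfsg.Co0)) := by
    ext g
    rw [MonoidHom.mem_ker, MonoidHom.comp_apply, pr_one, Subgroup.mem_subgroupOf]
    show (QuotientGroup.mk (g : ↥Cfsg.Co0) : Gc) ∈ AG ↔ _
    have hm : AG = A.map (QuotientGroup.mk' (Subgroup.center ↥Cfsg.Co0)) := by
      rw [hA, MonoidHom.map_zpowers, QuotientGroup.mk'_apply, ha', AG]
    rw [hm, ← QuotientGroup.mk'_apply, ← Subgroup.mem_comap, Subgroup.comap_map_eq, QuotientGroup.ker_mk']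
  have hn : ((A ⊔ Subgroup.center ↥Cfsg.Co0).subgroupOf (Subgroup.centralizer (A : Set ↥Cfsg.Co0))).Normal :=
    hker ▸ MonoidHom.normal_ker _
  refine ⟨A, by rw [hA, Nat.card_zpowers, ho], hn, Sz, inferInstance, inferInstance, ⟨?_⟩, simple_Sz, not_comm_Sz,
    zs, order_zs, Rs, Rs_normal, gFitting_Hs, isExtraspecial_Rs, card_Rs, ⟨quotS⟩, nwc_Rs⟩
  exact ((QuotientGroup.quotientKerEquivOfSurjective (pr.comp f) (pr_surjective.comp hf)).symm).trans
    (QuotientGroup.quotientMulEquivOfEq hker)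

end CfsgLib.Sporadic.Conway.SuzSection
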