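import Cfsg.Agent.Lib.Sporadic.SuzSection.Space
import Cfsg.Agent.Lib.Sporadic.ConwayOneInvolution
import Cfsg.Agent.Lib.Sporadic.ConwaySuzSectionData

/-!
# The action of the centraliser on the extraspecial group modulo its centre
-/

set_option autoImplicit false
set_option maxRecDepth 20000

namespace CfsgLib.Sporadic.Conway.SuzSection

open Cfsg Matrix CfsgLib.ThreeTrans.Leech CfsgLib.Sporadic.Lattice
open CfsgLib.Sporadic.Conway.OneInv (zOne C1 QOne kerHom proj jU)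
open CfsgLib.Sporadic.Conway.TwoInv (QIx qel tElt fl pm ocMask flipMasks)

local notation "F₂" => ZMod 2
local notation "O₈" => Cfsg.isometryGroup F₂ q8

/-- Four bits. -/
def bits (n : ℕ) (i : Fin 4) : F₂ := if n.testBit i.val then 1 else 0

/-- A tabulated code. -/
def look (l : List (ℕ × ℕ)) (k : ℕ) : ℕ := (l.lookup k).getD 0

/-- The coordinates of a pair. -/
def psiX (p c : ℕ) : I8 → F₂ := Sum.elim (bits (look permCodes p)) (bits (look flipCodes c))

theorem perm_add : ∀ p ∈ octFixList, ∀ q ∈ octFixList,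
    bits (look permCodes (pmul p q)) = bits (look permCodes p) + bits (look permCodes q) := by
  decide +kernel

theorem flip_add : ∀ c ∈ flipMasks, ∀ d ∈ flipMasks,
    bits (look flipCodes (c ^^^ d)) = bits (look flipCodes c) + bits (look flipCodes d) := by
  decide +kernel

theorem mixed : ∀ p ∈ octFixList, ∀ c ∈ flipMasks, look flipCodes (mimg p c) = look flipCodes c ∧
    ((c ^^^ mimg p c = 0 ∧ q8 (psiX p c) = 0) ∨ (c ^^^ mimg p c = ocMask ∧ q8 (psiX p c) = 1)) ∧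
    pmul p p = pone := by
  decide +kernel

theorem perm_surj : ∀ v : Fin 4 → F₂, ∃ p ∈ octFixList, bits (look permCodes p) = v := by decide +kernel

theorem flip_surj : ∀ v : Fin 4 → F₂, ∃ c ∈ flipMasks, bits (look flipCodes c) = v := by decide +kernel

theorem code_ker : (∀ p ∈ octFixList, bits (look permCodes p) = 0 → p = pone) ∧
    (∀ c ∈ flipMasks, bits (look flipCodes c) = 0 → c = 0 ∨ c = ocMask) ∧
    psiX pone ocMask = 0 := by
  decide +kernel

/-- An element of the extraspecial group. -/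
noncomputable def qq (x : QIx) : ↥QOne := kerHom ⟨qel x, TwoInv.qel_ker x⟩

theorem qq_bijective : Function.Bijective qq := by
  constructor
  · intro a b h
    exact TwoInv.qel_injective (congrArg Subtype.val (OneInv.kerHom_bijective.1 h))
  · intro y
    obtain ⟨⟨g, hg⟩, rfl⟩ := OneInv.kerHom_bijective.2 y
    obtain ⟨x, hx⟩ := (TwoInv.range_qel ▸ MonoidHom.mem_ker.1 hg : g ∈ Set.range qel)
    exact ⟨x, congrArg kerHom (Subtype.ext hx)⟩

/-- The coordinates of an element. -/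
noncomputable def psi (a : ↥QOne) : I8 → F₂ :=
  psiX ((Equiv.ofBijective qq qq_bijective).symm a).1.1 ((Equiv.ofBijective qq qq_bijective).symm a).2.1

theorem psi_qq (x : QIx) : psi (qq x) = psiX x.1.1 x.2.1 := by
  have : (Equiv.ofBijective qq qq_bijective).symm (qq x) = x :=
    (Equiv.ofBijective qq qq_bijective).symm_apply_apply x
  rw [psi, this]

theorem qq_mul (p q : {p : ℕ // p ∈ octFixList}) (c d : {c : ℕ // c ∈ flipMasks})
    (h1 : pmul p.1 q.1 ∈ octFixList) (h2 : c.1 ^^^ mimg p.1 d.1 ∈ flipMasks) :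
    qq (p, c) * qq (q, d) = qq (⟨pmul p.1 q.1, h1⟩, ⟨c.1 ^^^ mimg p.1 d.1, h2⟩) := by
  rw [qq, qq, qq, ← map_mul]
  exact congrArg kerHom (Subtype.ext (Subtype.ext (TwoInv.fl_pm_mul p.2 q.2 c.2 d.2)))

theorem psi_mul (a b : ↥QOne) : psi (a * b) = psi a + psi b := by
  obtain ⟨⟨⟨p, hp⟩, ⟨c, hc⟩⟩, rfl⟩ := qq_bijective.2 a
  obtain ⟨⟨⟨q, hq⟩, ⟨d, hd⟩⟩, rfl⟩ := qq_bijective.2 b
  obtain ⟨-, -, hmul, hfl, -, -⟩ := TwoInv.perm_facts.2.2.1 p hp
  have h2 : c ^^^ mimg p d ∈ flipMasks := (TwoInv.perm_facts.2.2.2.1 c hc).2.2.1 _ (hfl d hd).1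
  rw [qq_mul ⟨p, hp⟩ ⟨q, hq⟩ ⟨c, hc⟩ ⟨d, hd⟩ (hmul q hq).1 h2, psi_qq, psi_qq, psi_qq]
  funext i
  rcases i with i | i
  · exact congrFun (perm_add p hp q hq) i
  · show bits (look flipCodes (c ^^^ mimg p d)) i = _
    rw [congrFun (flip_add c hc _ (hfl d hd).1) i]
    show _ = bits (look flipCodes c) i + bits (look flipCodes d) i
    rw [Pi.add_apply]
    conv_lhs => rw [bits, bits, (mixed p hp d hd).1]
    rfl

theorem psi_one : psi 1 = 0 := by
  have h := psi_mul 1 1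
  rw [one_mul] at h
  funext i
  have := congrFun h i
  simpa using this

theorem psi_inv (a : ↥QOne) : psi a⁻¹ = psi a := by
  have h := psi_mul a⁻¹ a
  rw [inv_mul_cancel, psi_one] at h
  funext i
  have := congrFun h i
  simp only [Pi.zero_apply, Pi.add_apply] at this
  revert this
  generalize psi a⁻¹ i = x
  generalize psi a i = y
  revert x y
  decide

theorem psi_surjective : Function.Surjective psi := by
  intro v
  obtain ⟨p, hp, ep⟩ := perm_surj fun i => v (.inl i)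
  obtain ⟨c, hc, ec⟩ := flip_surj fun i => v (.inr i)
  refine ⟨qq (⟨p, hp⟩, ⟨c, hc⟩), ?_⟩
  rw [psi_qq]
  funext i
  rcases i with i | i
  exacts [congrFun ep i, congrFun ec i]

/-- The central involution. -/
noncomputable def zQ : ↥QOne :=
  qq (⟨pone, TwoInv.perm_facts.2.2.2.2.1⟩, ⟨ocMask, TwoInv.perm_facts.2.2.2.2.2.2.1⟩)

theorem zQ_val : ((zQ : ↥C1) : Cfsg.Spor.Co1) = zOne := by
  show (QuotientGroup.mk (fl ocMask * pm pone) : Cfsg.Spor.Co1) = QuotientGroup.mk tElt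
  rw [TwoInv.pm_one, mul_one]
  rfl

theorem zQ_ne_one : zQ ≠ 1 := fun h => by
  have h' := congrArg (fun a : ↥QOne => ((a : ↥C1) : Cfsg.Spor.Co1)) h
  have := OneInv.zOne_order
  rw [zQ_val] at h'
  rw [h'] at this
  simp at this

theorem psi_zQ : psi zQ = 0 := by rw [zQ, psi_qq]; exact code_ker.2.2

theorem qq_zero : qq (⟨pone, TwoInv.perm_facts.2.2.2.2.1⟩, ⟨0, TwoInv.perm_facts.2.2.2.2.2.1⟩) = 1 := by
  rw [qq, ← map_one kerHom]
  refine congrArg kerHom (Subtype.ext (Subtype.ext ?_))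
  show fl 0 * pm pone = 1
  rw [TwoInv.fl_zero, TwoInv.pm_one, one_mul]

theorem psi_eq_zero {a : ↥QOne} (h : psi a = 0) : a = 1 ∨ a = zQ := by
  obtain ⟨⟨⟨p, hp⟩, ⟨c, hc⟩⟩, rfl⟩ := qq_bijective.2 a
  rw [psi_qq] at h
  obtain rfl := code_ker.1 p hp (funext fun i => congrFun h (.inl i))
  rcases code_ker.2.1 c hc (funext fun i => congrFun h (.inr i)) with rfl | rfl
  · exact Or.inl qq_zero
  · exact Or.inr rfl

theorem psi_eq {a b : ↥QOne} (h : psi a = psi b) : a = b ∨ a = b * zQ := by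
  have h0 : psi (b⁻¹ * a) = 0 := by
    rw [psi_mul, psi_inv, h]
    exact funext fun i => CharTwo.add_self_eq_zero _
  rcases psi_eq_zero h0 with e | e
  · exact Or.inl (inv_mul_eq_one.1 e).symm
  · exact Or.inr (inv_mul_eq_iff_eq_mul.1 e)

/-- The two elements of the centre. -/
noncomputable def zf (t : F₂) : ↥QOne := if t = 1 then zQ else 1

theorem sq_eq (a : ↥QOne) : a * a = zf (q8 (psi a)) := by
  obtain ⟨⟨⟨p, hp⟩, ⟨c, hc⟩⟩, rfl⟩ := qq_bijective.2 a
  obtain ⟨-, -, hmul, hfl, -, -⟩ := TwoInv.perm_facts.2.2.1 p hp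
  have h2 : c ^^^ mimg p c ∈ flipMasks := (TwoInv.perm_facts.2.2.2.1 c hc).2.2.1 _ (hfl c hc).1
  rw [qq_mul ⟨p, hp⟩ ⟨p, hp⟩ ⟨c, hc⟩ ⟨c, hc⟩ (hmul p hp).1 h2, psi_qq]
  obtain ⟨-, hcase, hpp⟩ := mixed p hp c hc
  rcases hcase with ⟨e, eq⟩ | ⟨e, eq⟩ <;> rw [eq]
  · rw [zf, if_neg (by decide), ← qq_zero]
    exact congrArg qq (Prod.ext (Subtype.ext hpp) (Subtype.ext e))
  · rw [zf, if_pos rfl, zQ]
    exact congrArg qq (Prod.ext (Subtype.ext hpp) (Subtype.ext e))

theorem zQ_sq : zQ * zQ = 1 := by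
  rw [sq_eq, psi_zQ, zf, if_neg]
  show ¬ q8 0 = 1
  decide +kernel

theorem zf_inj {s t : F₂} (h : zf s = zf t) : s = t := by
  revert h
  rcases (by decide : ∀ t : F₂, t = 0 ∨ t = 1) s with rfl | rfl <;>
    rcases (by decide : ∀ t : F₂, t = 0 ∨ t = 1) t with rfl | rfl <;>
    simp [zf, zQ_ne_one, zQ_ne_one.symm]

theorem zf_add (s t : F₂) : zf (s + t) = zf s * zf t := by
  rcases (by decide : ∀ t : F₂, t = 0 ∨ t = 1) s with rfl | rfl <;>
    rcases (by decide : ∀ t : F₂, t = 0 ∨ t = 1) t with rfl | rfl <;>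
    simp [zf, zQ_sq, show (1 : F₂) + 1 = 0 from by decide]

theorem zQ_central (a : ↥QOne) : a * zQ = zQ * a := by
  refine Subtype.ext (Subtype.ext ?_)
  show ((a : ↥C1) : Cfsg.Spor.Co1) * ((zQ : ↥C1) : Cfsg.Spor.Co1) = _
  rw [zQ_val]
  show _ = ((zQ : ↥C1) : Cfsg.Spor.Co1) * ((a : ↥C1) : Cfsg.Spor.Co1)
  rw [zQ_val]
  exact Subgroup.mem_centralizer_singleton_iff.1 (a : ↥C1).2

theorem commute_iff (a b : ↥QOne) : a * b = b * a ↔ bp q8 (psi a) (psi b) = 0 := by
  constructor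
  · intro h
    have e : zf (q8 (psi a + psi b)) = zf (q8 (psi a) + q8 (psi b)) := by
      rw [← psi_mul, ← sq_eq, zf_add, ← sq_eq, ← sq_eq, mul_assoc, ← mul_assoc b, ← h, mul_assoc a b b,
        ← mul_assoc]
    rw [bp, zf_inj e, add_assoc]
    exact CharTwo.add_self_eq_zero _
  · intro h
    have hc : psi (a * b) = psi (b * a) := by rw [psi_mul, psi_mul, add_comm]
    refine (psi_eq hc).resolve_right fun hz => ?_
    have e : zf (q8 (psi a + psi b)) = zf (1 + (q8 (psi a) + q8 (psi b))) := by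
      rw [← psi_mul, ← sq_eq, zf_add, zf_add, ← sq_eq, ← sq_eq]
      show a * b * (a * b) = zQ * (a * a * (b * b))
      have hz' : b * a = a * b * zQ := by rw [hz, mul_assoc, zQ_sq, mul_one]
      rw [mul_assoc a, ← mul_assoc b a, hz', zQ_central (a * b)]
      simp only [← mul_assoc]
      rw [zQ_central a]
    have he := zf_inj e
    rw [bp, he] at h
    revert h
    generalize q8 (psi a) = x
    generalize q8 (psi b) = y
    revert x y
    decide

/-- A preimage of a vector. -/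
noncomputable def pre (v : I8 → F₂) : ↥QOne := (psi_surjective v).choose

theorem psi_pre (v : I8 → F₂) : psi (pre v) = v := (psi_surjective v).choose_spec

/-- Conjugation on the extraspecial group. -/
noncomputable def cj (g : ↥C1) (a : ↥QOne) : ↥QOne := ⟨g * a * g⁻¹, OneInv.QOne_normal.conj_mem a.1 a.2 g⟩

theorem cj_val (g : ↥C1) (a : ↥QOne) : ((cj g a : ↥QOne) : ↥C1) = g * a * g⁻¹ := rfl

theorem cj_zQ (g : ↥C1) : cj g zQ = zQ := by
  refine Subtype.ext (Subtype.ext ?_)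
  show (g : Cfsg.Spor.Co1) * ((zQ : ↥C1) : Cfsg.Spor.Co1) * (g : Cfsg.Spor.Co1)⁻¹ = ((zQ : ↥C1) : Cfsg.Spor.Co1)
  rw [zQ_val, Subgroup.mem_centralizer_singleton_iff.1 g.2, mul_inv_cancel_right]

theorem cj_mul (g : ↥C1) (a b : ↥QOne) : cj g (a * b) = cj g a * cj g b :=
  Subtype.ext (by simp only [cj_val, Subgroup.coe_mul]; group)

theorem cj_cj (g h : ↥C1) (a : ↥QOne) : cj g (cj h a) = cj (g * h) a :=
  Subtype.ext (by simp only [cj_val]; group)

/-- The action on the space. -/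
noncomputable def act (g : ↥C1) (v : I8 → F₂) : I8 → F₂ := psi (cj g (pre v))

theorem act_psi (g : ↥C1) (a : ↥QOne) : act g (psi a) = psi (cj g a) := by
  rcases psi_eq (psi_pre (psi a)) with e | e <;> rw [act, e]
  rw [cj_mul, psi_mul, cj_zQ, psi_zQ, add_zero]

theorem act_add (g : ↥C1) (u v : I8 → F₂) : act g (u + v) = act g u + act g v := by
  conv_lhs => rw [← psi_pre u, ← psi_pre v, ← psi_mul, act_psi, cj_mul, psi_mul]
  rfl

/-- The matrix of the action. -/
noncomputable def smat (g : ↥C1) : Matrix I8 I8 F₂ :=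
  LinearMap.toMatrix' ((AddMonoidHom.mk' (act g) (act_add g)).toZModLinearMap 2)

theorem smat_mulVec (g : ↥C1) (v : I8 → F₂) : smat g *ᵥ v = act g v :=
  LinearMap.toMatrix'_mulVec _ _

theorem smat_psi (g : ↥C1) (a : ↥QOne) : smat g *ᵥ psi a = psi (cj g a) := by rw [smat_mulVec, act_psi]

theorem smat_ext {A B : Matrix I8 I8 F₂} (h : ∀ a : ↥QOne, A *ᵥ psi a = B *ᵥ psi a) : A = B :=
  Matrix.ext_of_mulVec_single fun j => by
    have := h (pre (Pi.single j 1))
    rwa [psi_pre] at this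

/-- The matrices as a homomorphism. -/
noncomputable def smatHom : ↥C1 →* Matrix I8 I8 F₂ where
  toFun := smat
  map_one' := smat_ext fun a => by
    rw [smat_psi, Matrix.one_mulVec, show cj 1 a = a from Subtype.ext (by simp [cj_val])]
  map_mul' g h := smat_ext fun a => by
    rw [← Matrix.mulVec_mulVec, smat_psi, smat_psi, smat_psi, cj_cj]

theorem smat_preserve (g : ↥C1) (v : I8 → F₂) : q8 (smat g *ᵥ v) = q8 v := by
  obtain ⟨a, rfl⟩ := psi_surjective v
  rw [smat_psi]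
  refine zf_inj ?_
  rw [← sq_eq, ← cj_mul, sq_eq]
  rcases (by decide : ∀ t : F₂, t = 0 ∨ t = 1) (q8 (psi a)) with e | e <;> rw [e, zf]
  · rw [if_neg (by decide)]
    exact Subtype.ext (by simp [cj_val])
  · rw [if_pos rfl, cj_zQ]

/-- The representation. -/
noncomputable def sigma : ↥C1 →* ↥O₈ :=
  smatHom.toHomUnits.codRestrict _ fun g u _ => smat_preserve g u

theorem sigma_val (g : ↥C1) :
    (((sigma g : ↥O₈) : Matrix.GeneralLinearGroup I8 F₂) : Matrix I8 I8 F₂) = smat g := rfl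

theorem sigma_eq_iff {g h : ↥C1} : sigma g = sigma h ↔ smat g = smat h := by
  rw [Subtype.ext_iff, Units.ext_iff, sigma_val, sigma_val]

theorem mem_ker_iff {g : ↥C1} : g ∈ sigma.ker ↔ smat g = 1 := by
  rw [MonoidHom.mem_ker, Subtype.ext_iff, Units.ext_iff, sigma_val]
  rfl

theorem le_ker : QOne ≤ sigma.ker := by
  intro g hg
  rw [mem_ker_iff]
  refine smat_ext fun a => ?_
  rw [smat_psi, Matrix.one_mulVec,
    show cj g a = (⟨g, hg⟩ : ↥QOne) * a * (⟨g, hg⟩ : ↥QOne)⁻¹ from Subtype.ext rfl, psi_mul, psi_mul, psi_inv,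
    add_comm (psi _) (psi a), add_assoc]
  rw [show psi (⟨g, hg⟩ : ↥QOne) + psi ⟨g, hg⟩ = 0 from funext fun i => CharTwo.add_self_eq_zero _, add_zero]

theorem move_psi : bits (look permCodes OneInv.movePerms.2.2.1) ≠
    bits (look permCodes OneInv.movePerms.2.1) := by
  decide +kernel

theorem ker_eq : sigma.ker = QOne := by
  haveI := OneInv.simple_quot
  refine le_antisymm ?_ le_ker
  have hn : (sigma.ker.map (QuotientGroup.mk' QOne)).Normal :=
    Subgroup.Normal.map (MonoidHom.normal_ker _) _ (QuotientGroup.mk'_surjective _)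
  rcases hn.eq_bot_or_eq_top with h | h
  · rwa [Subgroup.map_eq_bot_iff, QuotientGroup.ker_mk'] at h
  exfalso
  obtain ⟨hp, hpo, hq, hq', -, hpq, hpqa, -, -, -, -, -⟩ := OneInv.move_data
  obtain ⟨p, hpdef⟩ : ∃ p, p = OneInv.movePerms.1 := ⟨_, rfl⟩
  obtain ⟨q, hqdef⟩ : ∃ q, q = OneInv.movePerms.2.1 := ⟨_, rfl⟩
  obtain ⟨q', hq'def⟩ : ∃ q', q' = OneInv.movePerms.2.2.1 := ⟨_, rfl⟩
  have hne := move_psi
  rw [← hqdef, ← hq'def] at hne
  rw [← hpdef] at hp hpo hpq hpqa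
  rw [← hqdef] at hq hpq hpqa
  rw [← hq'def] at hq' hpq
  have hA : ∀ s ∈ octFixList, isAut s = true := fun s hs => (TwoInv.perm_facts.2.2.1 s hs).1
  let y : ↥C1 := proj ⟨pm p, TwoInv.pm_mem_CT hp hpo⟩
  have hy : smat y = 1 := by
    rw [← mem_ker_iff]
    obtain ⟨c, hc, e⟩ : QuotientGroup.mk' QOne y ∈ sigma.ker.map (QuotientGroup.mk' QOne) :=
      h ▸ Subgroup.mem_top _
    have := mul_mem (hc : c ∈ sigma.ker) (le_ker (QuotientGroup.eq.1 e))
    rwa [mul_inv_cancel_left] at this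
  let X : ↥QOne := qq (⟨q, hq⟩, ⟨0, TwoInv.perm_facts.2.2.2.2.2.1⟩)
  let X' : ↥QOne := qq (⟨q', hq'⟩, ⟨0, TwoInv.perm_facts.2.2.2.2.2.1⟩)
  have hX : cj y X = X' := by
    refine Subtype.ext ?_
    rw [cj_val, mul_inv_eq_iff_eq_mul]
    refine Subtype.ext ?_
    show (QuotientGroup.mk (pm p) : Cfsg.Spor.Co1) * QuotientGroup.mk (fl 0 * pm q) =
      QuotientGroup.mk (fl 0 * pm q') * QuotientGroup.mk (pm p)
    rw [← QuotientGroup.mk_mul, ← QuotientGroup.mk_mul, TwoInv.fl_zero, one_mul, one_mul,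
      TwoInv.pm_mul hp (hA q hq) hpqa, TwoInv.pm_mul (hA q' hq') hp (hpq ▸ hpqa), hpq]
  have := smat_psi y X
  rw [hy, Matrix.one_mulVec, hX, psi_qq, psi_qq] at this
  exact hne (funext fun i => (congrFun this (.inl i)).symm)

/-- The image. -/
theorem range_sigma : sigma.range = Cfsg.Omega F₂ q8 := by
  haveI : Finite ↥O₈ := Finite.of_injective _ Subtype.val_injective
  have hcard : Nat.card sigma.range = 174182400 := by
    rw [← Nat.card_congr (QuotientGroup.quotientKerEquivRange sigma).toEquiv,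
      Nat.card_congr (QuotientGroup.quotientMulEquivOfEq ker_eq).toEquiv,
      Nat.card_congr OneInv.quotEquiv.toEquiv, OneInv.card_range8]
  have hidx : sigma.range.index = 2 := by
    have h := Subgroup.card_mul_index sigma.range
    rw [hcard, OneInv.card_iso8] at h
    omega
  haveI := Subgroup.normal_of_index_eq_two hidx
  have hle : Cfsg.Omega F₂ q8 ≤ sigma.range := by
    rw [← Subgroup.Normal.quotient_commutative_iff_commutator_le]
    haveI : Fact (Nat.Prime 2) := ⟨Nat.prime_two⟩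
    haveI : IsCyclic (↥O₈ ⧸ sigma.range) :=
      isCyclic_of_prime_card (p := 2) (by rw [← Subgroup.index_eq_card]; exact hidx)
    exact IsCyclic.commutative
  refine (Subgroup.eq_of_le_of_card_ge hle ?_).symm
  have h1 := Subgroup.card_mul_index (Cfsg.Omega F₂ q8)
  rw [index8, OneInv.card_iso8] at h1
  rw [hcard]
  omega

theorem nondeg8' : ∀ u : I8 → F₂, u ≠ 0 → ∃ v, bp q8 v u ≠ 0 := by
  unfold bp; decide +kernel

theorem polar_ne (a : ↥QOne) (h : psi a ≠ 0) : ∃ v, bp q8 v (psi a) ≠ 0 := nondeg8' _ h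

/-- Every noncentral involution of the extraspecial group is a conjugate of the central one. -/
theorem exists_conj_z {a : ↥QOne} (ha : q8 (psi a) = 0) (ha0 : psi a ≠ 0) :
    ∃ g : Cfsg.Spor.Co1, g * zOne * g⁻¹ = ((a : ↥C1) : Cfsg.Spor.Co1) := by
  obtain ⟨g, ⟨hgC, hgQ⟩, hgne⟩ := OneInv.exists_conj
  let b : ↥QOne := ⟨⟨g * zOne * g⁻¹, hgC⟩, hgQ⟩
  have hbb : b * b = 1 := by
    refine Subtype.ext (Subtype.ext ?_)
    show g * zOne * g⁻¹ * (g * zOne * g⁻¹) = 1
    rw [conj_mul, ← zQ_val, ← Subgroup.coe_mul, ← Subgroup.coe_mul, zQ_sq]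
    simp
  have hb1 : b ≠ 1 := fun e => by
    have := congrArg (fun a : ↥QOne => ((a : ↥C1) : Cfsg.Spor.Co1)) e
    change g * zOne * g⁻¹ = 1 at this
    rw [conj_eq_one_iff] at this
    exact zQ_ne_one (Subtype.ext (Subtype.ext (zQ_val.trans this)))
  have hbz : b ≠ zQ := fun e => hgne (by
    have := congrArg (fun a : ↥QOne => ((a : ↥C1) : Cfsg.Spor.Co1)) e
    rw [zQ_val] at this
    exact this)
  have hb0 : psi b ≠ 0 := fun e => (psi_eq_zero e).elim hb1 hbz
  have hqb : q8 (psi b) = 0 := by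
    refine zf_inj ?_
    rw [← sq_eq, hbb, zf, if_neg (by decide)]
  obtain ⟨e, he, ev⟩ := transit8 hb0 hqb ha0 ha
  rw [← range_sigma] at he
  obtain ⟨k, rfl⟩ := he
  rw [sigma_val, smat_psi] at ev
  rcases psi_eq ev.symm with h | h
  · exact ⟨(k : Cfsg.Spor.Co1) * g, by rw [h]; show _ = (k : Cfsg.Spor.Co1) * (g * zOne * g⁻¹) * (k : Cfsg.Spor.Co1)⁻¹; group⟩
  · -- move the conjugate to the other lift
    obtain ⟨v, hv⟩ := polar_ne a ha0
    refine ⟨((pre v : ↥QOne) : ↥C1) * k * g, ?_⟩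
    have hm : cj ((pre v : ↥QOne) : ↥C1) (cj k b) = a := by
      have hne : pre v * cj k b ≠ cj k b * pre v := fun hc => by
        rw [commute_iff, psi_pre, ev] at hc
        exact hv hc
      rcases psi_eq (a := cj ((pre v : ↥QOne) : ↥C1) (cj k b)) (b := cj k b) (by
          rw [← act_psi, ← smat_mulVec, mem_ker_iff.1 (le_ker (pre v).2), Matrix.one_mulVec]) with h' | h'
      · exact absurd (mul_inv_eq_iff_eq_mul.1 (Subtype.ext (congrArg Subtype.val h') :
          pre v * cj k b * (pre v)⁻¹ = cj k b)) hne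
      · rw [h', h]
    rw [← hm]
    simp only [cj_val, Subgroup.coe_mul, InvMemClass.coe_inv]
    show _ = _ * ((k : Cfsg.Spor.Co1) * (g * zOne * g⁻¹) * (k : Cfsg.Spor.Co1)⁻¹) * _
    group

end CfsgLib.Sporadic.Conway.SuzSection
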