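import Cfsg.Agent.Lib.Known.OmegaCriterion
import Cfsg.Agent.Lib.Classical.Quad.POmega
import Cfsg.Agent.Lib.Classical.SmallOrtho.UnitarySix
import Cfsg.Agent.Lib.Classical.Unitary.MatrixStructure
import Mathlib.FieldTheory.Finite.GaloisField

/-!
# Eight dimensional plus type space over two elements, split as six dimensional minus type and a plane

An element of order three rotating the plane has centraliser `3 × Omega₆⁻(2)` inside `Omega₈⁺(2)`.
-/

set_option autoImplicit false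
set_option maxRecDepth 20000
set_option synthInstance.maxSize 2000

namespace CfsgLib.Sporadic.Conway.SuzSection

open Matrix QuadraticMap
open CfsgLib.Classical.Quad CfsgLib.Known.OmegaCriterion

section Generic

variable {ι : Type} [Fintype ι] [DecidableEq ι] {Q : QuadraticForm (ZMod 2) (ι → ZMod 2)}

/-- The polar form of a quadratic function over two elements. -/
def bp (q : (ι → ZMod 2) → ZMod 2) (u v : ι → ZMod 2) : ZMod 2 := q (u + v) + q u + q v

theorem refl_mulVec {v : ι → ZMod 2} (hv : Q v = 1) (x : ι → ZMod 2) :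
    Cfsg.reflectionMatrix (⇑Q) v *ᵥ x = x + bp (⇑Q) x v • v := by
  rw [reflectionMatrix_mulVec, reflMap_apply, hv, inv_one, one_mul, QuadraticMap.polar, bp]
  funext i
  simp only [Pi.sub_apply, Pi.smul_apply, Pi.add_apply, smul_eq_mul]
  generalize Q (x + v) = a
  generalize Q x = b
  generalize Q v = c
  generalize x i = d
  generalize v i = e
  exact (by decide : ∀ a b c d e : ZMod 2, d - (a - b - c) * e = d + (a + b + c) * e) a b c d e

theorem pair_mem (hQ : (polarBilin Q).Nondegenerate) (hex : Fintype.card ι ≠ 4) {a b : ι → ZMod 2}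
    (ha : Q a = 1) (hb : Q b = 1) : ∃ g : ↥(Cfsg.isometryGroup (ZMod 2) ⇑Q),
      g ∈ Cfsg.Omega (ZMod 2) ⇑Q ∧ ∀ x, ((g : Matrix.GeneralLinearGroup ι (ZMod 2)) : Matrix ι ι (ZMod 2)) *ᵥ x =
        Cfsg.reflectionMatrix (⇑Q) a *ᵥ (Cfsg.reflectionMatrix (⇑Q) b *ᵥ x) := by
  obtain ⟨-, s, hs, hp, hsp⟩ := exists_list hQ [a, b] (by
    intro v hv
    simp only [List.mem_cons, List.not_mem_nil, or_false] at hv
    rcases hv with rfl | rfl <;> simp [ha, hb])
  obtain ⟨g, hg, e⟩ := (exists_mem_Omega_iff hQ (Or.inr hex) _ s hs).2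
    ⟨by rw [hp]; exact (show ((2 : ℕ) : ZMod 2) = 0 by decide), spinor_of_two_eq_zero (by decide) s⟩
  refine ⟨g, hg, fun x => ?_⟩
  rw [e, List.map_cons, List.map_cons, List.map_nil, List.prod_cons, List.prod_cons, List.prod_nil,
    mul_one, Matrix.mulVec_mulVec]

theorem single_not_mem (hQ : (polarBilin Q).Nondegenerate) (hex : Fintype.card ι ≠ 4) {a : ι → ZMod 2}
    (ha : Q a = 1) (g : ↥(Cfsg.isometryGroup (ZMod 2) ⇑Q))
    (hg : ((g : Matrix.GeneralLinearGroup ι (ZMod 2)) : Matrix ι ι (ZMod 2)) = Cfsg.reflectionMatrix (⇑Q) a) :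
    g ∉ Cfsg.Omega (ZMod 2) ⇑Q := by
  intro hm
  obtain ⟨-, s, hs, hp, -⟩ := exists_list hQ [a] (by simp [ha])
  have h := ((exists_mem_Omega_iff hQ (Or.inr hex) _ s hs).1 ⟨g, hm, by simp [hg]⟩).1
  rw [hp] at h
  exact absurd (show ((1 : ℕ) : ZMod 2) = 0 from h) (by decide)

theorem index_omega (hQ : (polarBilin Q).Nondegenerate) (hex : Fintype.card ι ≠ 4)
    (h2 : 2 ≤ Fintype.card ι) : (Cfsg.Omega (ZMod 2) ⇑Q).index = 2 := by
  have e : (commutator (Cfsg.isometryGroup (ZMod 2) (⇑Q))).map (oEquiv Q).toMonoidHom = commutator (OQ Q) := by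
    rw [commutator_def, commutator_def, Subgroup.map_commutator,
      Subgroup.map_top_of_surjective _ (oEquiv Q).surjective]
  have h := index_commutator_OQ hQ (reflGroup_pi_eq_top hQ (Or.inr hex))
    (by rw [Module.finrank_pi]; exact h2)
  rw [← e, Subgroup.index_map_of_bijective (f := (oEquiv Q).toMonoidHom) (oEquiv Q).bijective, card_sqClass_of_two_eq_zero (by decide)] at h
  simpa using h

/-- One step between nonorthogonal singular vectors. -/
theorem step_mem (hQ : (polarBilin Q).Nondegenerate) (hex : Fintype.card ι ≠ 4) {u v b : ι → ZMod 2}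
    (hu : Q u = 0) (hv : Q v = 0) (huv : bp (⇑Q) u v = 1) (hb : Q b = 1) (hvb : bp (⇑Q) v b = 0) :
    ∃ g : ↥(Cfsg.isometryGroup (ZMod 2) ⇑Q), g ∈ Cfsg.Omega (ZMod 2) ⇑Q ∧
      ((g : Matrix.GeneralLinearGroup ι (ZMod 2)) : Matrix ι ι (ZMod 2)) *ᵥ u = v := by
  have ha : Q (u + v) = 1 := by
    rw [bp, hu, hv, add_zero, add_zero] at huv; exact huv
  obtain ⟨g, hg, e⟩ := pair_mem hQ hex hb ha
  refine ⟨g, hg, ?_⟩
  rw [e, refl_mulVec ha, refl_mulVec hb]
  have h1 : bp (⇑Q) u (u + v) = 1 := by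
    rw [bp, ← add_assoc, show u + u = 0 from funext fun i => CharTwo.add_self_eq_zero _, zero_add, hv, hu, ha]; rfl
  have h2 : u + (1 : ZMod 2) • (u + v) = v := by
    rw [one_smul, ← add_assoc, show u + u = 0 from funext fun i => CharTwo.add_self_eq_zero _, zero_add]
  rw [h1, h2, hvb, zero_smul, add_zero]

end Generic

local notation "F₂" => ZMod 2

/-- Index of the big space. -/
abbrev I8 : Type := Fin 4 ⊕ Fin 4
/-- Index of the six dimensional space. -/
abbrev I6 : Type := (Fin 2 ⊕ Fin 2) ⊕ Fin 2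

/-- The plus form. -/
abbrev q8 : (I8 → F₂) → F₂ := Cfsg.quadFormPlus 4 F₂
/-- The minus form. -/
abbrev q6 : (I6 → F₂) → F₂ := Cfsg.quadFormMinus 2 F₂ 1 1
/-- The form on the plane. -/
def qW (w : Fin 2 → F₂) : F₂ := w 0 ^ 2 + w 0 * w 1 + w 1 ^ 2

theorem aniso : ∀ z₁ z₂ : F₂, z₁ ^ 2 + 1 * z₁ * z₂ + 1 * z₂ ^ 2 = 0 → z₁ = 0 ∧ z₂ = 0 := by decide

theorem nondeg8 : (polarBilin (qPlus 4 F₂)).Nondegenerate := qPlus_nondeg 4

theorem nondeg6 : (polarBilin (qMinus 2 F₂ 1 1)).Nondegenerate := qMinus_nondeg aniso 2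

/-- The change of coordinates. -/
def TM : Matrix I8 (I6 ⊕ Fin 2) F₂ := Matrix.of fun i j =>
  match i, j with
  | .inl 0, .inl (.inl (.inl 0)) => 1
  | .inl 1, .inl (.inl (.inl 1)) => 1
  | .inr 0, .inl (.inl (.inr 0)) => 1
  | .inr 1, .inl (.inl (.inr 1)) => 1
  | .inl 2, .inl (.inr 0) => 1
  | .inl 2, .inl (.inr 1) => 1
  | .inl 2, .inr 1 => 1
  | .inr 2, .inl (.inr 0) => 1
  | .inr 2, .inr 1 => 1
  | .inl 3, .inl (.inr 1) => 1
  | .inl 3, .inr 0 => 1
  | .inl 3, .inr 1 => 1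
  | .inr 3, .inl (.inr 1) => 1
  | .inr 3, .inr 0 => 1
  | _, _ => 0

/-- Its inverse. -/
def TI : Matrix (I6 ⊕ Fin 2) I8 F₂ := Matrix.of fun j i =>
  match j, i with
  | .inl (.inl (.inl 0)), .inl 0 => 1
  | .inl (.inl (.inl 1)), .inl 1 => 1
  | .inl (.inl (.inr 0)), .inr 0 => 1
  | .inl (.inl (.inr 1)), .inr 1 => 1
  | .inl (.inr 0), .inr 2 => 1
  | .inl (.inr 0), .inl 3 => 1
  | .inl (.inr 0), .inr 3 => 1
  | .inl (.inr 1), .inl 2 => 1
  | .inl (.inr 1), .inr 2 => 1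
  | .inr 0, .inl 2 => 1
  | .inr 0, .inr 2 => 1
  | .inr 0, .inr 3 => 1
  | .inr 1, .inl 3 => 1
  | .inr 1, .inr 3 => 1
  | _, _ => 0

theorem TM_TI : TM * TI = 1 := by decide +kernel

theorem TI_TM : TI * TM = 1 := by decide +kernel

/-- Joining coordinates. -/
def join (u : I6 → F₂) (w : Fin 2 → F₂) : I8 → F₂ := TM *ᵥ Sum.elim u w

theorem q_join : ∀ u w, q8 (join u w) = q6 u + qW w := by
  decide +kernel

theorem exists_join (x : I8 → F₂) : ∃ u w, x = join u w := by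
  refine ⟨fun i => (TI *ᵥ x) (.inl i), fun i => (TI *ᵥ x) (.inr i), ?_⟩
  rw [join, show Sum.elim (fun i => (TI *ᵥ x) (Sum.inl i)) (fun i => (TI *ᵥ x) (Sum.inr i)) = TI *ᵥ x from
    funext fun i => by cases i <;> rfl, Matrix.mulVec_mulVec, TM_TI, Matrix.one_mulVec]

theorem join_inj {u u' : I6 → F₂} {w w' : Fin 2 → F₂} (h : join u w = join u' w') : u = u' ∧ w = w' := by
  have := congrArg (fun x => TI *ᵥ x) h
  simp only [join, Matrix.mulVec_mulVec, TI_TM, Matrix.one_mulVec] at this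
  exact ⟨funext fun i => congrFun this (.inl i), funext fun i => congrFun this (.inr i)⟩

theorem join_add (u u' : I6 → F₂) (w w' : Fin 2 → F₂) :
    join (u + u') (w + w') = join u w + join u' w' := by
  simp only [join, ← Matrix.mulVec_add]
  congr 1
  funext i
  cases i <;> rfl

/-- A block diagonal map in the new coordinates. -/
def blk (A : Matrix I6 I6 F₂) (D : Matrix (Fin 2) (Fin 2) F₂) : Matrix I8 I8 F₂ :=
  TM * Matrix.fromBlocks A 0 0 D * TI

theorem blk_one : blk 1 1 = 1 := by rw [blk, Matrix.fromBlocks_one, Matrix.mul_one, TM_TI]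

theorem blk_mul (A A' : Matrix I6 I6 F₂) (D D' : Matrix (Fin 2) (Fin 2) F₂) :
    blk A D * blk A' D' = blk (A * A') (D * D') := by
  calc blk A D * blk A' D' = TM * Matrix.fromBlocks A 0 0 D * (TI * TM) * Matrix.fromBlocks A' 0 0 D' * TI := by
        simp only [blk, Matrix.mul_assoc]
    _ = _ := by
        rw [TI_TM, Matrix.mul_one, Matrix.mul_assoc TM, Matrix.fromBlocks_multiply]
        simp [blk]

theorem blk_join (A : Matrix I6 I6 F₂) (D : Matrix (Fin 2) (Fin 2) F₂) (u : I6 → F₂) (w : Fin 2 → F₂) :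
    blk A D *ᵥ join u w = join (A *ᵥ u) (D *ᵥ w) := by
  rw [blk, join, Matrix.mulVec_mulVec, Matrix.mul_assoc, TI_TM, Matrix.mul_one, ← Matrix.mulVec_mulVec, join,
    Matrix.fromBlocks_mulVec]
  simp

/-- The rotation. -/
def rot : Matrix (Fin 2) (Fin 2) F₂ := !![0, 1; 1, 1]

theorem rot_pow : rot * rot * rot = 1 ∧ rot ≠ 1 ∧ rot * rot ≠ 1 := by decide +kernel

theorem rot_qW : ∀ w, qW (rot *ᵥ w) = qW w := by decide +kernel

theorem blk_preserve {A : Matrix I6 I6 F₂} {D : Matrix (Fin 2) (Fin 2) F₂}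
    (hA : ∀ u, q6 (A *ᵥ u) = q6 u) (hD : ∀ w, qW (D *ᵥ w) = qW w) (x : I8 → F₂) :
    q8 (blk A D *ᵥ x) = q8 x := by
  obtain ⟨u, w, rfl⟩ := exists_join x
  rw [blk_join, q_join, q_join, hA, hD]

/-- The rotation of the big space. -/
def A0 : Matrix I8 I8 F₂ := blk 1 rot

theorem A0_cube : A0 * A0 * A0 = 1 := by
  rw [A0, blk_mul, blk_mul, rot_pow.1, one_mul, one_mul, blk_one]

theorem A0_fix (u : I6 → F₂) : A0 *ᵥ join u 0 = join u 0 := by
  rw [A0, blk_join, Matrix.one_mulVec, Matrix.mulVec_zero]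

theorem rot_fix : ∀ w, rot *ᵥ w = w → w = 0 := by decide +kernel

theorem A0_fixed {x : I8 → F₂} (h : A0 *ᵥ x = x) : ∃ u, x = join u 0 := by
  obtain ⟨u, w, rfl⟩ := exists_join x
  rw [A0, blk_join] at h
  exact ⟨u, by rw [rot_fix w (join_inj h).2]⟩

theorem plane_cases : ∀ D : Matrix (Fin 2) (Fin 2) F₂, D * rot = rot * D → (∀ w, qW (D *ᵥ w) = qW w) →
    D = 1 ∨ D = rot ∨ D = rot * rot := by
  decide +kernel

/-- The centraliser of the rotation is block diagonal. -/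
theorem commute_cases {M : Matrix I8 I8 F₂} (hM : M * A0 = A0 * M) (hq : ∀ x, q8 (M *ᵥ x) = q8 x) :
    ∃ (A : Matrix I6 I6 F₂) (i : Fin 3), M = blk A (rot ^ i.val) ∧ ∀ u, q6 (A *ᵥ u) = q6 u := by
  obtain ⟨A, B, C, D, hN⟩ : ∃ A B C D, TI * M * TM = Matrix.fromBlocks A B C D :=
    ⟨_, _, _, _, (Matrix.fromBlocks_toBlocks _).symm⟩
  have hM' : M = TM * Matrix.fromBlocks A B C D * TI := by
    rw [← hN]
    simp only [← Matrix.mul_assoc, TM_TI, Matrix.one_mul]
    rw [Matrix.mul_assoc M, TM_TI, Matrix.mul_one]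
  have hc : Matrix.fromBlocks A B C D * Matrix.fromBlocks 1 0 0 rot =
      Matrix.fromBlocks 1 0 0 rot * Matrix.fromBlocks A B C D := by
    have e : TI * (M * A0) * TM = TI * (A0 * M) * TM := by rw [hM]
    rw [hM', A0, blk] at e
    simp only [Matrix.mul_assoc, ← Matrix.mul_assoc TI TM, TI_TM, Matrix.one_mul, Matrix.mul_one] at e
    exact e
  simp only [Matrix.fromBlocks_multiply, Matrix.mul_one, Matrix.one_mul, Matrix.mul_zero, Matrix.zero_mul,
    add_zero, zero_add, Matrix.fromBlocks_inj] at hc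
  obtain ⟨-, hB, hC, hD⟩ := hc
  have hi : (rot - 1) * (!![0, 1; 1, 1] : Matrix (Fin 2) (Fin 2) F₂) = 1 ∧ (!![0, 1; 1, 1] : Matrix (Fin 2) (Fin 2) F₂) * (rot - 1) = 1 := by decide +kernel
  have hB0 : B = 0 := by
    have : B * (rot - 1) = 0 := by rw [Matrix.mul_sub, hB, Matrix.mul_one, sub_self]
    calc B = B * (rot - 1) * (!![0, 1; 1, 1] : Matrix (Fin 2) (Fin 2) F₂) := by rw [Matrix.mul_assoc, hi.1, Matrix.mul_one]
      _ = 0 := by rw [this, Matrix.zero_mul]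
  have hC0 : C = 0 := by
    have : (rot - 1) * C = 0 := by rw [Matrix.sub_mul, ← hC, Matrix.one_mul, sub_self]
    calc C = (!![0, 1; 1, 1] : Matrix (Fin 2) (Fin 2) F₂) * ((rot - 1) * C) := by rw [← Matrix.mul_assoc, hi.2, Matrix.one_mul]
      _ = 0 := by rw [this, Matrix.mul_zero]
  subst hB0; subst hC0
  change M = blk A D at hM'
  subst hM'
  have hA : ∀ u, q6 (A *ᵥ u) = q6 u := fun u => by
    have := hq (join u 0)
    rw [blk_join, q_join, q_join, Matrix.mulVec_zero] at this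
    exact add_right_cancel this
  have hW : ∀ w, qW (D *ᵥ w) = qW w := fun w => by
    have := hq (join 0 w)
    rw [blk_join, q_join, q_join, Matrix.mulVec_zero] at this
    exact add_left_cancel this
  rcases plane_cases D hD hW with rfl | rfl | rfl
  · exact ⟨A, 0, by rw [Fin.val_zero, pow_zero], hA⟩
  · exact ⟨A, 1, by rw [Fin.val_one, pow_one], hA⟩
  · exact ⟨A, 2, by rw [Fin.val_two, pow_two], hA⟩

local notation "O₆" => Cfsg.isometryGroup F₂ q6
local notation "O₈" => Cfsg.isometryGroup F₂ q8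

/-- The six dimensional group inside. -/
def embHom : ↥O₆ →* Matrix I8 I8 F₂ where
  toFun g := blk ((g : Matrix.GeneralLinearGroup I6 F₂) : Matrix I6 I6 F₂) 1
  map_one' := blk_one
  map_mul' g h := by rw [blk_mul, Matrix.mul_one]; rfl

/-- The embedding. -/
noncomputable def emb : ↥O₆ →* ↥O₈ :=
  embHom.toHomUnits.codRestrict _ fun g u _ =>
    blk_preserve (fun u => g.2 u u) (fun w => by rw [Matrix.one_mulVec]) u

theorem emb_val (g : ↥O₆) : (((emb g : ↥O₈) : Matrix.GeneralLinearGroup I8 F₂) : Matrix I8 I8 F₂) =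
    blk ((g : Matrix.GeneralLinearGroup I6 F₂) : Matrix I6 I6 F₂) 1 := rfl

theorem qPlus_eq : ⇑(qPlus 4 F₂) = q8 := coe_qPlus 4 F₂

theorem qMinus_eq : ⇑(qMinus 2 F₂ 1 1) = q6 := coe_qMinus 2 F₂ 1 1

theorem index6 : (Cfsg.Omega F₂ q6).index = 2 := by
  have h := index_omega nondeg6 (by decide) (by decide)
  rwa [qMinus_eq] at h

theorem index8 : (Cfsg.Omega F₂ q8).index = 2 := by
  have h := index_omega nondeg8 (by decide) (by decide)
  rwa [qPlus_eq] at h

/-- A nonsingular vector. -/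
def tv : I6 → F₂ := Sum.elim (Sum.elim ![1, 0] ![1, 0]) 0

theorem tv_spec : q6 tv = 1 ∧ blk (Cfsg.reflectionMatrix q6 tv) 1 = Cfsg.reflectionMatrix q8 (join tv 0) := by
  unfold Cfsg.reflectionMatrix Cfsg.polarVec; decide +kernel

theorem exists_transvection : ∃ t : ↥O₆, emb t ∉ Cfsg.Omega F₂ q8 := by
  obtain ⟨-, s, hs, -, -⟩ := exists_list nondeg6 [tv] (by
    intro v hv
    rw [List.mem_singleton] at hv
    subst hv
    rw [qMinus_eq, tv_spec.1]; exact one_ne_zero)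
  have h0 : ∀ u, q6 (Cfsg.reflectionMatrix q6 tv *ᵥ u) = q6 u := fun u => by
    have := hs u
    rw [List.map_cons, List.map_nil, List.prod_singleton] at this
    rw [qMinus_eq] at this
    rw [this, ← qMinus_eq]
    exact s.2 u u
  have hsq : Cfsg.reflectionMatrix q6 tv * Cfsg.reflectionMatrix q6 tv = 1 := by
    unfold Cfsg.reflectionMatrix Cfsg.polarVec; decide +kernel
  refine ⟨⟨⟨_, _, hsq, hsq⟩, fun u _ => h0 u⟩, ?_⟩
  have h8 : q8 (join tv 0) = 1 := by rw [q_join, tv_spec.1]; decide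
  have := fun g hg => single_not_mem (Q := qPlus 4 F₂) nondeg8 (by decide) (a := join tv 0)
    (by rw [qPlus_eq]; exact h8) g hg
  rw [qPlus_eq] at this
  exact this _ tv_spec.2

theorem comap_omega : (Cfsg.Omega F₂ q8).comap emb = Cfsg.Omega F₂ q6 := by
  have hle : Cfsg.Omega F₂ q6 ≤ (Cfsg.Omega F₂ q8).comap emb := by
    refine Subgroup.map_le_iff_le_comap.1 ?_
    show (commutator ↥O₆).map emb ≤ commutator ↥O₈
    rw [commutator_def, commutator_def, Subgroup.map_commutator]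
    exact Subgroup.commutator_mono le_top le_top
  refine le_antisymm (fun g hg => ?_) hle
  by_contra hg6
  obtain ⟨t, ht⟩ := exists_transvection
  have h := Subgroup.mul_mem_iff_of_index_two index6 (a := t) (b := g)
  have ht6 : t ∉ Cfsg.Omega F₂ q6 := fun h => ht (hle h)
  have hm : emb (t * g) ∈ Cfsg.Omega F₂ q8 := hle (h.2 (iff_of_false ht6 hg6))
  rw [map_mul] at hm
  exact ht (((Subgroup.mul_mem_iff_of_index_two index8).1 hm).2 hg)

theorem simple6 : IsSimpleGroup ↥(Cfsg.Omega F₂ q6) := by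
  classical
  haveI : Fact (Nat.Prime 2) := ⟨Nat.prime_two⟩
  let K := GaloisField 2 2
  haveI : Fintype K := Fintype.ofFinite K
  have hK : Fintype.card K = 2 ^ 2 := by
    rw [← Nat.card_eq_fintype_card]; exact GaloisField.card 2 2 two_ne_zero
  obtain ⟨e⟩ := CfsgLib.Classical.SmallOrtho.nonempty_pomega_six_minus (K := K) (ZMod.card 2) hK aniso
  haveI : IsSimpleGroup (Cfsg.POmega F₂ q6) :=
    haveI := CfsgLib.Classical.Herm.isSimpleGroup_PSU' hK 4 (by norm_num) (by norm_num)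
    e.isSimpleGroup
  have hc : Subgroup.center ↥(Cfsg.Omega F₂ q6) = ⊥ := by
    rw [← Subgroup.card_eq_one]
    have h := card_center_Omega nondeg6 (by rw [Module.finrank_pi]; decide) False
      ⟨False.elim, fun h => h.2 (by decide)⟩
    rw [if_neg not_false] at h
    rw [← qMinus_eq, ← h, ← map_center_eq (omegaEquiv (qMinus 2 F₂ 1 1))]
    exact Nat.card_congr (Subgroup.equivMapOfInjective _ _ (omegaEquiv _).injective).toEquiv
  have hbij : Function.Bijective (QuotientGroup.mk' (Subgroup.center ↥(Cfsg.Omega F₂ q6))) := by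
    refine ⟨(injective_iff_map_eq_one _).2 fun a ha => ?_, QuotientGroup.mk'_surjective _⟩
    rw [QuotientGroup.mk'_apply, QuotientGroup.eq_one_iff, hc] at ha
    exact Subgroup.mem_bot.1 ha
  exact (MulEquiv.ofBijective _ hbij).isSimpleGroup

theorem adj8 : ∀ u : I8 → F₂, u ≠ 0 → q8 u = 0 → ∃ b, q8 b = 1 ∧ bp q8 u b = 0 := by
  unfold bp; decide +kernel

/-- A standard singular vector. -/
def e8 : I8 → F₂ := Pi.single (Sum.inl 0) 1

theorem link8 : e8 ≠ 0 ∧ q8 e8 = 0 ∧ ∀ v : I8 → F₂, v ≠ 0 → q8 v = 0 →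
    bp q8 e8 v = 1 ∨ ∃ w, w ≠ 0 ∧ q8 w = 0 ∧ bp q8 e8 w = 1 ∧ bp q8 w v = 1 := by
  unfold bp; decide +kernel

theorem transit_step {a b : I8 → F₂} (ha : q8 a = 0) (hb0 : b ≠ 0) (hb : q8 b = 0) (hab : bp q8 a b = 1) :
    ∃ g : ↥O₈, g ∈ Cfsg.Omega F₂ q8 ∧
      ((g : Matrix.GeneralLinearGroup I8 F₂) : Matrix I8 I8 F₂) *ᵥ a = b := by
  obtain ⟨c, hc, hbc⟩ := adj8 b hb0 hb
  have := step_mem (Q := qPlus 4 F₂) nondeg8 (by decide) (u := a) (v := b) (b := c)
    (by rw [qPlus_eq]; exact ha) (by rw [qPlus_eq]; exact hb) (by rw [qPlus_eq]; exact hab)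
    (by rw [qPlus_eq]; exact hc) (by rw [qPlus_eq]; exact hbc)
  rwa [qPlus_eq] at this

theorem transit_base {v : I8 → F₂} (hv0 : v ≠ 0) (hv : q8 v = 0) :
    ∃ g : ↥O₈, g ∈ Cfsg.Omega F₂ q8 ∧
      ((g : Matrix.GeneralLinearGroup I8 F₂) : Matrix I8 I8 F₂) *ᵥ e8 = v := by
  rcases link8.2.2 v hv0 hv with h | ⟨w, hw0, hw, h1, h2⟩
  · exact transit_step link8.2.1 hv0 hv h
  · obtain ⟨g, hg, eg⟩ := transit_step link8.2.1 hw0 hw h1
    obtain ⟨h, hh, eh⟩ := transit_step hw hv0 hv h2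
    refine ⟨h * g, mul_mem hh hg, ?_⟩
    rw [Subgroup.coe_mul, Units.val_mul, ← Matrix.mulVec_mulVec, eg, eh]

/-- Transitivity on singular vectors. -/
theorem transit8 {u v : I8 → F₂} (hu0 : u ≠ 0) (hu : q8 u = 0) (hv0 : v ≠ 0) (hv : q8 v = 0) :
    ∃ g : ↥O₈, g ∈ Cfsg.Omega F₂ q8 ∧
      ((g : Matrix.GeneralLinearGroup I8 F₂) : Matrix I8 I8 F₂) *ᵥ u = v := by
  obtain ⟨g, hg, eg⟩ := transit_base hu0 hu
  obtain ⟨h, hh, eh⟩ := transit_base hv0 hv
  refine ⟨h * g⁻¹, mul_mem hh (inv_mem hg), ?_⟩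
  rw [← eg, Matrix.mulVec_mulVec, ← Units.val_mul, ← Subgroup.coe_mul, inv_mul_cancel_right, eh]

theorem irr_start : ∀ s : I6 → F₂, s ≠ 0 → ∃ a, q6 a = 1 ∧ bp q6 s a = 1 ∧ ∃ b, q6 b = 1 ∧ bp q6 s b = 0 := by
  unfold bp; decide +kernel

theorem irr_step : ∀ a : I6 → F₂, q6 a = 1 → ∀ c : I6 → F₂, q6 c = 1 → bp q6 a c = 1 →
    ∃ b, q6 b = 1 ∧ bp q6 a b = 0 := by
  unfold bp; decide +kernel

theorem irr_link : ∀ a : I6 → F₂, q6 a = 1 → ∀ c : I6 → F₂, q6 c = 1 → a = c ∨ bp q6 a c = 1 ∨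
    ∃ d, q6 d = 1 ∧ bp q6 a d = 1 ∧ bp q6 d c = 1 := by
  unfold bp; decide +kernel

theorem irr_span : ∀ x : I6 → F₂, ∃ a c, q6 a = 1 ∧ q6 c = 1 ∧ (x = a + c ∨ x = a) := by
  decide +kernel

/-- A nonzero invariant additive set is everything. -/
theorem irreducible6 (S : Set (I6 → F₂)) (hadd : ∀ a ∈ S, ∀ b ∈ S, a + b ∈ S)
    (hinv : ∀ g : ↥O₆, g ∈ Cfsg.Omega F₂ q6 → ∀ a ∈ S,
      ((g : Matrix.GeneralLinearGroup I6 F₂) : Matrix I6 I6 F₂) *ᵥ a ∈ S)
    (s : I6 → F₂) (hs : s ∈ S) (hs0 : s ≠ 0) : ∀ x, x ∈ S := by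
  have take : ∀ {t a b : I6 → F₂}, t ∈ S → q6 a = 1 → bp q6 t a = 1 → q6 b = 1 → bp q6 t b = 0 → a ∈ S := by
    intro t a b ht ha hta hb htb
    have h := pair_mem (Q := qMinus 2 F₂ 1 1) nondeg6 (by decide) (a := a) (b := b)
      (by rw [qMinus_eq]; exact ha) (by rw [qMinus_eq]; exact hb)
    have r1 := refl_mulVec (Q := qMinus 2 F₂ 1 1) (v := b) (by rw [qMinus_eq]; exact hb) t
    have r2 := refl_mulVec (Q := qMinus 2 F₂ 1 1) (v := a) (by rw [qMinus_eq]; exact ha) t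
    rw [qMinus_eq] at h r1 r2
    obtain ⟨g, hg, e⟩ := h
    have hm := hinv g hg t ht
    rw [e, r1, htb, zero_smul, add_zero, r2, hta, one_smul] at hm
    have h' := hadd _ hm _ ht
    rwa [add_comm t a, add_assoc, show t + t = 0 from funext fun i => CharTwo.add_self_eq_zero _, add_zero] at h'
  obtain ⟨a, ha, hsa, b, hb, hsb⟩ := irr_start s hs0
  have haS := take hs ha hsa hb hsb
  have next' : ∀ {c d : I6 → F₂}, c ∈ S → q6 c = 1 → q6 d = 1 → bp q6 c d = 1 → d ∈ S := by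
    intro c d hcS hc hd hcd
    obtain ⟨b, hb, hcb⟩ := irr_step c hc d hd hcd
    exact take hcS hd hcd hb hcb
  have all1 : ∀ c, q6 c = 1 → c ∈ S := by
    intro c hc
    rcases irr_link a ha c hc with rfl | h | ⟨d, hd, h1, h2⟩
    · exact haS
    · exact next' haS ha hc h
    · exact next' (next' haS ha hd h1) hd hc h2
  intro x
  obtain ⟨u, v, hu, hv, rfl | rfl⟩ := irr_span x
  · exact hadd _ (all1 u hu) _ (all1 v hv)
  · exact all1 _ hu

theorem exists_singular6 : ∃ u : I6 → F₂, u ≠ 0 ∧ q6 u = 0 := by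
  decide +kernel

end CfsgLib.Sporadic.Conway.SuzSection
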